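import Cfsg.Agent.Lib.Spinor.EvenClass
import Cfsg.Agent.Lib.Spinor.TSMinus
import Cfsg.Agent.Lib.Spinor.Discr
import Cfsg.Agent.Lib.Spinor.Rows
import Cfsg.Agent.Lib.Forms.OddInvol
import Cfsg.Agent.Lib.LinearGroups.FormCount
import Mathlib

/-!
Types of orthogonal sums and of spaces with an isometry without fixed vectors.
-/

set_option autoImplicit false

namespace Cfsg.Agent.OrthClasses

variable {F : Type*} [Field F]

abbrev PI (m : ℕ) := Fin m ⊕ Fin m
abbrev MI (k : ℕ) := (Fin k ⊕ Fin k) ⊕ Fin 2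

/-- A totally singular subspace of dimension `m`. -/
def HasHalf {V : Type*} [AddCommGroup V] [Module F V] (Q : V → F) (m : ℕ) : Prop :=
  ∃ W : Submodule F V, Module.finrank F W = m ∧ ∀ v ∈ W, Q v = 0

theorem hasHalf_map {V V' : Type*} [AddCommGroup V] [Module F V] [AddCommGroup V'] [Module F V']
    {Q : V → F} {Q' : V' → F} {m : ℕ} (L : V ≃ₗ[F] V') (hL : ∀ v, Q' (L v) = Q v)
    (h : HasHalf (F := F) Q m) : HasHalf (F := F) Q' m := by
  obtain ⟨W, hW, hW'⟩ := h
  refine ⟨W.map (L : V →ₗ[F] V'), by rw [LinearEquiv.finrank_map_eq, hW], ?_⟩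
  rintro _ ⟨v, hv, rfl⟩
  rw [LinearEquiv.coe_coe, hL, hW' v hv]

theorem plus_half (m : ℕ) : HasHalf (F := F) (Cfsg.quadFormPlus m F) m := by
  let f : (Fin m → F) →ₗ[F] (PI m → F) :=
    { toFun := fun x => Sum.elim x 0
      map_add' := fun x y => by funext i; rcases i with i | i <;> simp
      map_smul' := fun c x => by funext i; rcases i with i | i <;> simp }
  have hf : Function.Injective f := fun x y h => funext fun i => congrFun h (.inl i)
  refine ⟨LinearMap.range f, by rw [LinearMap.finrank_range_of_inj hf, Module.finrank_fin_fun], ?_⟩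
  rintro _ ⟨x, rfl⟩
  simp [f, Cfsg.quadFormPlus]

theorem minus_no_half (k : ℕ) (a b : F)
    (hab : ∀ z₁ z₂ : F, z₁ ^ 2 + a * z₁ * z₂ + b * z₂ ^ 2 = 0 → z₁ = 0 ∧ z₂ = 0) :
    ¬ HasHalf (F := F) (Cfsg.quadFormMinus k F a b) (k + 1) := fun ⟨W, hW, hW'⟩ => by
  have := Spinor.minus_ts_finrank_le a b hab W hW'
  omega

theorem prod_half {V₁ V₂ : Type*} [AddCommGroup V₁] [Module F V₁] [FiniteDimensional F V₁]
    [AddCommGroup V₂] [Module F V₂] [FiniteDimensional F V₂]
    {Q₁ : V₁ → F} {Q₂ : V₂ → F} {k l : ℕ} (h₁ : HasHalf (F := F) Q₁ k) (h₂ : HasHalf (F := F) Q₂ l) :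
    HasHalf (F := F) (fun v : V₁ × V₂ => Q₁ v.1 + Q₂ v.2) (k + l) := by
  obtain ⟨W₁, h1, h1'⟩ := h₁
  obtain ⟨W₂, h2, h2'⟩ := h₂
  let f : W₁ × W₂ →ₗ[F] V₁ × V₂ := W₁.subtype.prodMap W₂.subtype
  have hf : Function.Injective f := fun x y h => by
    have e1 := congrArg Prod.fst h
    have e2 := congrArg Prod.snd h
    exact Prod.ext (Subtype.ext e1) (Subtype.ext e2)
  refine ⟨LinearMap.range f, by rw [LinearMap.finrank_range_of_inj hf, Module.finrank_prod, h1, h2], ?_⟩
  rintro _ ⟨⟨x, y⟩, rfl⟩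
  show Q₁ x + Q₂ y = 0
  rw [h1' x x.2, h2' y y.2, add_zero]

/-- The binary form takes the value `-1` on multiples. -/
theorem minus_minus_half [Fintype F] (k l : ℕ) (a b : F)
    (hab : ∀ z₁ z₂ : F, z₁ ^ 2 + a * z₁ * z₂ + b * z₂ ^ 2 = 0 → z₁ = 0 ∧ z₂ = 0) :
    HasHalf (F := F) (fun v : (MI k → F) × (MI l → F) =>
      Cfsg.quadFormMinus k F a b v.1 + Cfsg.quadFormMinus l F a b v.2) (k + l + 2) := by
  obtain ⟨u, hu⟩ := OrthRows.exists_norm_all (S0288.binForm_nondeg a b hab) (by simp)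
    (show (-1 : F) ≠ 0 from neg_ne_zero.2 one_ne_zero)
  rw [S0288.binForm_apply] at hu
  let f : ((Fin k → F) × (Fin l → F)) × (Fin 2 → F) →ₗ[F] (MI k → F) × (MI l → F) :=
    { toFun := fun p => (Sum.elim (Sum.elim p.1.1 0) p.2,
        Sum.elim (Sum.elim p.1.2 0) ![u 0 * p.2 0 - b * u 1 * p.2 1,
          u 0 * p.2 1 + u 1 * p.2 0 + a * u 1 * p.2 1])
      map_add' := fun x y => by
        refine Prod.ext ?_ ?_
        · funext i; rcases i with (i | i) | i <;> simp
        · funext i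
          rcases i with (i | i) | i
          · simp
          · simp
          · fin_cases i <;> simp <;> ring
      map_smul' := fun c x => by
        refine Prod.ext ?_ ?_
        · funext i; rcases i with (i | i) | i <;> simp
        · funext i
          rcases i with (i | i) | i
          · simp
          · simp
          · fin_cases i <;> simp <;> ring }
  have hf : Function.Injective f := fun x y h => by
    have e1 := congrArg Prod.fst h
    have e2 := congrArg Prod.snd h
    exact Prod.ext (Prod.ext (funext fun i => congrFun e1 (.inl (.inl i)))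
      (funext fun i => congrFun e2 (.inl (.inl i)))) (funext fun i => congrFun e1 (.inr i))
  refine ⟨LinearMap.range f, by rw [LinearMap.finrank_range_of_inj hf]; simp, ?_⟩
  rintro _ ⟨p, rfl⟩
  simp [f, Cfsg.quadFormMinus]
  linear_combination (p.2 0 ^ 2 + a * p.2 0 * p.2 1 + b * p.2 1 ^ 2) * hu

/-- A hyperbolic plus an elliptic space is elliptic. -/
theorem plus_minus_equiv (k l : ℕ) (a b : F) :
    ∃ L : ((PI k → F) × (MI l → F)) ≃ₗ[F] (MI (k + l) → F),
      ∀ v, Cfsg.quadFormMinus (k + l) F a b (L v) =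
        Cfsg.quadFormPlus k F v.1 + Cfsg.quadFormMinus l F a b v.2 := by
  let L : ((PI k → F) × (MI l → F)) ≃ₗ[F] (MI (k + l) → F) :=
    { toFun := fun v => Sum.elim
        (Sum.elim (Fin.append (fun i => v.1 (.inl i)) (fun i => v.2 (.inl (.inl i))))
          (Fin.append (fun i => v.1 (.inr i)) (fun i => v.2 (.inl (.inr i)))))
        (fun i => v.2 (.inr i))
      map_add' := fun x y => by
        funext i
        rcases i with (i | i) | i
        · refine Fin.addCases (fun j => ?_) (fun j => ?_) i <;> simp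
        · refine Fin.addCases (fun j => ?_) (fun j => ?_) i <;> simp
        · simp
      map_smul' := fun c x => by
        funext i
        rcases i with (i | i) | i
        · refine Fin.addCases (fun j => ?_) (fun j => ?_) i <;> simp
        · refine Fin.addCases (fun j => ?_) (fun j => ?_) i <;> simp
        · simp
      invFun := fun w => (Sum.elim (fun i => w (.inl (.inl (Fin.castAdd l i))))
          (fun i => w (.inl (.inr (Fin.castAdd l i)))),
        Sum.elim (Sum.elim (fun i => w (.inl (.inl (Fin.natAdd k i))))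
          (fun i => w (.inl (.inr (Fin.natAdd k i))))) (fun i => w (.inr i)))
      left_inv := fun v => by
        refine Prod.ext ?_ ?_
        · funext i; rcases i with i | i <;> simp
        · funext i; rcases i with (i | i) | i <;> simp
      right_inv := fun w => by
        funext i
        rcases i with (i | i) | i
        · refine Fin.addCases (fun j => ?_) (fun j => ?_) i <;> simp
        · refine Fin.addCases (fun j => ?_) (fun j => ?_) i <;> simp
        · simp }
  refine ⟨L, fun v => ?_⟩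
  simp [L, Cfsg.quadFormMinus, Cfsg.quadFormPlus, Fin.sum_univ_add]
  ring

theorem nondeg_comp {V V' : Type*} [AddCommGroup V] [Module F V] [AddCommGroup V'] [Module F V']
    {Q : QuadraticForm F V'} (hQ : (QuadraticMap.polarBilin Q).Nondegenerate) (L : V ≃ₗ[F] V') :
    (QuadraticMap.polarBilin (Q.comp L.toLinearMap)).Nondegenerate :=
  OrthOrder.nondegenerate_congr L (fun _ => rfl) hQ

theorem prod_nondeg {V₁ V₂ : Type*} [AddCommGroup V₁] [Module F V₁] [AddCommGroup V₂] [Module F V₂]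
    {Q₁ : QuadraticForm F V₁} {Q₂ : QuadraticForm F V₂}
    (hQ₁ : (QuadraticMap.polarBilin Q₁).Nondegenerate) (hQ₂ : (QuadraticMap.polarBilin Q₂).Nondegenerate) :
    (QuadraticMap.polarBilin (Q₁.prod Q₂)).Nondegenerate :=
  OrthOrder.nondegenerate_iff.2 fun x hx =>
    Prod.ext (hQ₁.1 _ fun y => by
        have := hx (y, 0)
        simpa [QuadraticMap.polar, QuadraticMap.prod_apply] using this)
      (hQ₂.1 _ fun y => by
        have := hx (0, y)
        simpa [QuadraticMap.polar, QuadraticMap.prod_apply] using this)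

section Finite

variable [Fintype F] {a b : F}
  (hab : ∀ z₁ z₂ : F, z₁ ^ 2 + a * z₁ * z₂ + b * z₂ ^ 2 = 0 → z₁ = 0 ∧ z₂ = 0)
  {V : Type*} [AddCommGroup V] [Module F V] [FiniteDimensional F V]

include hab

theorem equiv_plus_of_half {m : ℕ} (hm : 1 ≤ m) (hV : Module.finrank F V = 2 * m)
    (Q : QuadraticForm F V) (hQ : (QuadraticMap.polarBilin Q).Nondegenerate)
    (h : HasHalf (F := F) ⇑Q m) :
    ∃ L : V ≃ₗ[F] (PI m → F), ∀ v, Cfsg.quadFormPlus m F (L v) = Q v := by
  rcases Spinor.equiv_plus_or_minus hm hV Q hQ a b hab with hL | ⟨L, hL⟩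
  · exact hL
  · have := hasHalf_map (Q' := Cfsg.quadFormMinus (m - 1) F a b) L hL h
    exact absurd (by rwa [Nat.sub_add_cancel hm]) (minus_no_half (m - 1) a b hab)

/-- A space can be completed to a hyperbolic one by an even-dimensional space. -/
theorem exists_complement_plus {k l : ℕ} (hk : 1 ≤ k) (hl : 1 ≤ l) (hV : Module.finrank F V = 2 * k)
    (Q : QuadraticForm F V) (hQ : (QuadraticMap.polarBilin Q).Nondegenerate) :
    ∃ (Q₀ : QuadraticForm F (Fin (2 * l) → F)) (L : (V × (Fin (2 * l) → F)) ≃ₗ[F] (PI (k + l) → F)),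
      ∀ v, Cfsg.quadFormPlus (k + l) F (L v) = Q v.1 + Q₀ v.2 := by
  rcases Spinor.equiv_plus_or_minus hk hV Q hQ a b hab with ⟨L₁, h₁⟩ | ⟨L₁, h₁⟩
  · let e : (Fin (2 * l) → F) ≃ₗ[F] (PI l → F) :=
      (Module.finBasisOfFinrankEq F (PI l → F) (by simp; omega)).equivFun.symm
    let Q₀ := (OrthOrder.qPlus l F).comp e.toLinearMap
    have hQ₀ : (QuadraticMap.polarBilin Q₀).Nondegenerate := nondeg_comp (OrthForms.qPlus_nondeg l) e
    obtain ⟨L, hL⟩ := equiv_plus_of_half hab (by omega : 1 ≤ k + l)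
      (V := V × (Fin (2 * l) → F)) (by simp [hV]; omega) (Q.prod Q₀) (prod_nondeg hQ hQ₀) (by
        refine hasHalf_map (Q := fun v : (PI k → F) × (PI l → F) =>
          Cfsg.quadFormPlus k F v.1 + Cfsg.quadFormPlus l F v.2) (L₁.symm.prodCongr e.symm) (fun v => ?_)
          (prod_half (plus_half k) (plus_half l))
        simp [Q₀, ← h₁, OrthOrder.qPlus_apply])
    exact ⟨Q₀, L, fun v => by rw [hL]; rfl⟩
  · obtain ⟨l', rfl⟩ : ∃ l', l = l' + 1 := ⟨l - 1, by omega⟩
    obtain ⟨Qm, hQm, hQmn⟩ := OrthForms.exists_qMinus (F := F) l' a b hab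
    let e : (Fin (2 * (l' + 1)) → F) ≃ₗ[F] (MI l' → F) :=
      (Module.finBasisOfFinrankEq F (MI l' → F) (by simp; omega)).equivFun.symm
    let Q₀ := Qm.comp e.toLinearMap
    have hQ₀ : (QuadraticMap.polarBilin Q₀).Nondegenerate := nondeg_comp hQmn e
    obtain ⟨L, hL⟩ := equiv_plus_of_half hab (by omega : 1 ≤ k + (l' + 1))
      (V := V × (Fin (2 * (l' + 1)) → F)) (by simp [hV]; omega) (Q.prod Q₀) (prod_nondeg hQ hQ₀) (by
        rw [show k + (l' + 1) = (k - 1) + l' + 2 by omega]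
        refine hasHalf_map (L₁.symm.prodCongr e.symm) (fun v => ?_) (minus_minus_half (k - 1) l' a b hab)
        simp [Q₀, hQm, ← h₁])
    exact ⟨Q₀, L, fun v => by rw [hL]; rfl⟩

/-- A space can be completed to an elliptic one by an even-dimensional space. -/
theorem exists_complement_minus {k l : ℕ} (hk : 1 ≤ k) (hl : 1 ≤ l) (hV : Module.finrank F V = 2 * k)
    (Q : QuadraticForm F V) (hQ : (QuadraticMap.polarBilin Q).Nondegenerate) :
    ∃ (Q₀ : QuadraticForm F (Fin (2 * l) → F))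
      (L : (V × (Fin (2 * l) → F)) ≃ₗ[F] (MI (k + l - 1) → F)),
      ∀ v, Cfsg.quadFormMinus (k + l - 1) F a b (L v) = Q v.1 + Q₀ v.2 := by
  obtain ⟨k', rfl⟩ : ∃ k', k = k' + 1 := ⟨k - 1, by omega⟩
  obtain ⟨l', rfl⟩ : ∃ l', l = l' + 1 := ⟨l - 1, by omega⟩
  rcases Spinor.equiv_plus_or_minus hk hV Q hQ a b hab with ⟨L₁, h₁⟩ | ⟨L₁, h₁⟩
  · obtain ⟨Qm, hQm, -⟩ := OrthForms.exists_qMinus (F := F) l' a b hab
    let e : (Fin (2 * (l' + 1)) → F) ≃ₗ[F] (MI l' → F) :=
      (Module.finBasisOfFinrankEq F (MI l' → F) (by simp; omega)).equivFun.symm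
    obtain ⟨L, hL⟩ := plus_minus_equiv (k' + 1) l' a b
    rw [show k' + 1 + (l' + 1) - 1 = k' + 1 + l' by omega]
    exact ⟨Qm.comp e.toLinearMap, (L₁.prodCongr e).trans L, fun v => by
      simp [hL, h₁, hQm]⟩
  · let e : (Fin (2 * (l' + 1)) → F) ≃ₗ[F] (PI (l' + 1) → F) :=
      (Module.finBasisOfFinrankEq F (PI (l' + 1) → F) (by simp; omega)).equivFun.symm
    replace h₁ : ∀ v, Cfsg.quadFormMinus k' F a b (L₁ v) = Q v := h₁
    obtain ⟨L, hL⟩ := plus_minus_equiv (l' + 1) k' a b
    rw [show k' + 1 + (l' + 1) - 1 = l' + 1 + k' by omega]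
    exact ⟨(OrthOrder.qPlus (l' + 1) F).comp e.toLinearMap,
      (((LinearEquiv.prodComm F V (Fin (2 * (l' + 1)) → F))).trans (e.prodCongr L₁)).trans L, fun v => by
      simp [hL, h₁, OrthOrder.qPlus_apply, add_comm]⟩

/-- The sign of a space with an isometry of prime order without fixed vectors. -/
theorem sign_of_fixedPointFree {k : ℕ} (hk : 1 ≤ k) (hV : Module.finrank F V = 2 * k)
    (Q : QuadraticForm F V) (hQ : (QuadraticMap.polarBilin Q).Nondegenerate) {r : ℕ} [Fact r.Prime]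
    (g : V ≃ₗ[F] V) (hg : ∀ v, Q (g v) = Q v) (hr : ∀ v, (⇑g)^[r] v = v) (hfix : ∀ v, g v = v → v = 0)
    (hr2 : r ≠ 2) (hq0 : (Fintype.card F : ZMod r) ≠ 0) (hq1 : (Fintype.card F : ZMod r) ≠ 1)
    {e : ℕ} (he : (Fintype.card F : ZMod r) ^ k = (-1) ^ e) :
    HasHalf (F := F) ⇑Q k ↔ Even e := by
  classical
  have : Finite V := Module.finite_of_finite F
  have := Fintype.ofFinite V
  let S := {v : V // Q v = 0}
  let f : Function.End S := fun v => ⟨g v.1, (hg v.1).trans v.2⟩
  have hfr : f ^ r ^ 1 = 1 := by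
    rw [pow_one]
    have : ∀ (j : ℕ) (v : S), ((f ^ j) v).1 = (⇑g)^[j] v.1 := by
      intro j
      induction j with
      | zero => intro v; rfl
      | succ j ih =>
        intro v
        rw [pow_succ', Function.iterate_succ_apply', ← ih]
        rfl
    funext v
    exact Subtype.ext ((this r v).trans (hr v.1))
  have hZ : ((Nat.card S : ℕ) : ZMod r) = 1 := by
    have h := Equiv.Perm.card_fixedPoints_modEq hfr
    rw [Nat.card_eq_fintype_card, (ZMod.natCast_eq_natCast_iff _ _ _).2 h]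
    refine (congrArg Nat.cast ?_).trans Nat.cast_one
    exact Fintype.card_eq_one_iff.2 ⟨⟨⟨0, QuadraticMap.map_zero Q⟩, Subtype.ext (map_zero g)⟩,
      fun v => Subtype.ext (Subtype.ext (hfix _ (congrArg Subtype.val v.2)))⟩
  have h21 : ((Fintype.card F : ZMod r)) ^ (2 * k) = 1 := by
    rw [mul_comm, pow_mul, he, ← pow_mul, mul_comm, pow_mul, neg_one_sq, one_pow]
  have hneg : (-1 : ZMod r) ≠ 1 := fun h => hr2 (by
    have h2 : ((2 : ℕ) : ZMod r) = 0 := by push_cast; linear_combination -h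
    exact (Nat.prime_dvd_prime_iff_eq Fact.out Nat.prime_two).1 ((ZMod.natCast_eq_zero_iff _ _).1 h2))
  have hsub : (Fintype.card F : ZMod r) - 1 ≠ 0 := sub_ne_zero.2 hq1
  rcases Spinor.equiv_plus_or_minus hk hV Q hQ a b hab with ⟨L, hL⟩ | ⟨L, hL⟩
  · refine iff_of_true (hasHalf_map L.symm (fun v => by rw [← hL, L.apply_symm_apply]) (plus_half k)) ?_
    have e1 : Nat.card S = Nat.card {v : PI k → F // Cfsg.quadFormPlus k F v = 0} :=
      Nat.card_congr (L.toEquiv.subtypeEquiv fun v => by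
        show Q v = 0 ↔ Cfsg.quadFormPlus k F (L v) = 0
        rw [hL])
    have h := congrArg (Int.cast : ℤ → ZMod r) (FormCount.card_plus (F := F) k 0)
    rw [if_pos rfl, ← e1] at h
    push_cast at h
    rw [hZ, h21, he] at h
    by_contra ho
    rw [(Nat.not_even_iff_odd.1 ho).neg_one_pow] at h
    have : (2 : ZMod r) * ((Fintype.card F : ZMod r) - 1) = 0 := by linear_combination h
    exact hneg (by linear_combination -((mul_eq_zero.1 this).resolve_right hsub))
  · refine iff_of_false (fun h => minus_no_half (k - 1) a b hab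
      (by rw [Nat.sub_add_cancel hk]; exact hasHalf_map (Q' := Cfsg.quadFormMinus (k - 1) F a b) L hL h)) ?_
    have e1 : Nat.card S = Nat.card {v // Cfsg.quadFormMinus (k - 1) F a b v = 0} :=
      Nat.card_congr (L.toEquiv.subtypeEquiv fun v => by
        show Q v = 0 ↔ Cfsg.quadFormMinus (k - 1) F a b (L v) = 0
        rw [hL])
    have h := congrArg (Int.cast : ℤ → ZMod r) (FormCount.card_minus (F := F) (k - 1) a b hab)
    rw [← e1, show k - 1 + 1 = k by omega, show 2 * (k - 1) + 2 = 2 * k by omega] at h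
    push_cast at h
    rw [hZ, h21, he] at h
    intro hev
    rw [hev.neg_one_pow] at h
    have : (2 : ZMod r) * ((Fintype.card F : ZMod r) - 1) = 0 := by linear_combination h
    exact hneg (by linear_combination -((mul_eq_zero.1 this).resolve_right hsub))

end Finite

/-- Non-degenerate forms of the same odd dimension are similar. -/
theorem exists_similar_odd [Fintype F] (h2 : (2 : F) ≠ 0) {m : ℕ} {V : Type*} [AddCommGroup V] [Module F V]
    [FiniteDimensional F V] (hV : Module.finrank F V = 2 * m + 1) (Q : QuadraticForm F V)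
    (hQ : (QuadraticMap.polarBilin Q).Nondegenerate) :
    ∃ (c : F) (L : V ≃ₗ[F] (Unit ⊕ PI m → F)), c ≠ 0 ∧ ∀ v, Cfsg.quadFormOdd m F (L v) = c * Q v := by
  let n := 2 * m + 1
  let eV : (Fin n → F) ≃ₗ[F] V := (Module.finBasisOfFinrankEq F V hV).equivFun.symm
  let eW : (Fin n → F) ≃ₗ[F] (Unit ⊕ PI m → F) :=
    (Module.finBasisOfFinrankEq F (Unit ⊕ PI m → F) (by simp [n]; omega)).equivFun.symm
  let Q₁ := Q.comp eV.toLinearMap
  let Q₂ := (FormsLib.qOdd m F).comp eW.toLinearMap
  have h₁ : (QuadraticMap.polarBilin Q₁).Nondegenerate := nondeg_comp hQ eV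
  have h₂ : (QuadraticMap.polarBilin Q₂).Nondegenerate :=
    nondeg_comp (FormsLib.qOdd_nondeg h2) eW
  have hdet : ∀ (Q' : QuadraticForm F (Fin n → F)), (QuadraticMap.polarBilin Q').Nondegenerate →
      (Spinor.gramMat Q').det ≠ 0 := fun Q' h' => by
    rw [show Spinor.gramMat Q' = LinearMap.toMatrix₂' F (QuadraticMap.polarBilin Q') by
        ext i j; simp [Spinor.gramMat, LinearMap.toMatrix₂'_apply],
      ← Matrix.nondegenerate_iff_det_ne_zero, ← Matrix.nondegenerate_toLinearMap₂'_iff,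
      Matrix.toLinearMap₂'_toMatrix']
    exact h'
  set d₁ := (Spinor.gramMat Q₁).det with hd₁
  set d₂ := (Spinor.gramMat Q₂).det with hd₂
  set c := d₁ * d₂
  have hc : c ≠ 0 := mul_ne_zero (hdet _ h₁) (hdet _ h₂)
  have h₁' : (QuadraticMap.polarBilin (c • Q₁)).Nondegenerate :=
    OrthOrder.nondegenerate_iff.2 fun x hx => h₁.1 x fun y => by
      have := hx y
      rw [FunLike.coe_smul, QuadraticMap.polar_smul, smul_eq_mul] at this
      exact (mul_eq_zero.1 this).resolve_left hc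
  have hg : Spinor.gramMat (c • Q₁) = c • Spinor.gramMat Q₁ := by
    ext i j
    simp [Spinor.gramMat, FunLike.coe_smul, QuadraticMap.polar_smul]
  obtain ⟨g, hg'⟩ := (Spinor.isometric_iff h2 (c • Q₁) Q₂ h₁' h₂).2 ⟨c ^ (m + 1), by
    rw [hg, Matrix.det_smul, Fintype.card_fin, ← hd₁, ← hd₂]
    show c ^ (2 * m + 1) * d₁ * d₂ = _
    rw [mul_assoc, show d₁ * d₂ = c from rfl]
    ring⟩
  refine ⟨c, (eV.symm.trans g).trans eW, hc, fun v => ?_⟩
  have := hg' (eV.symm v)
  simp only [Q₁, Q₂, QuadraticMap.comp_apply, QuadraticMap.smul_apply, LinearEquiv.coe_coe,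
    LinearEquiv.apply_symm_apply, smul_eq_mul, FormsLib.qOdd_apply] at this
  simpa [Cfsg.quadFormOdd, sq] using this

end Cfsg.Agent.OrthClasses
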