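import Cfsg.Agent.Lib.OrthClasses.Elusive
import Cfsg.Agent.Lib.TwoRank.OrthModels
import Mathlib

/-!
An isometric involution leaves invariant non-degenerate subspaces of both types.
-/

set_option autoImplicit false
set_option linter.unusedSectionVars false

namespace Cfsg.Agent.OrthClasses

open Cfsg.Agent.TwoRank

variable {F : Type*} [Field F] [Fintype F]

section Diag

variable {ι : Type} [Fintype ι] [DecidableEq ι] {Q : QuadraticForm F (ι → F)}

/-- The range of an isometric embedding. -/
theorem kind_range {κ : Type*} [Fintype κ] {h : ℕ} {pl : Prop} (f : (κ → F) →ₗ[F] (ι → F))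
    (hf : Function.Injective f) (hnd : (QuadraticMap.polarBilin (Q.comp f)).Nondegenerate)
    (hκ : Module.finrank F (κ → F) = 2 * h) (hpl : HasHalf (F := F) ⇑(Q.comp f) h ↔ pl) :
    Kind ⇑Q h pl (LinearMap.range f) := by
  refine ⟨by rw [LinearMap.finrank_range_of_inj hf, hκ], ?_, ?_⟩
  · rintro _ ⟨x, rfl⟩ h0
    obtain ⟨y, hy⟩ : ∃ y, QuadraticMap.polar (⇑Q) (f x) (f y) ≠ 0 := by
      by_contra hc
      push Not at hc
      refine h0 ?_
      rw [hnd.1 x fun y => (polar_comp' Q f x y).trans (hc y), map_zero]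
    exact ⟨⟨f y, ⟨y, rfl⟩, by rwa [QuadraticMap.polar_comm]⟩, f y, ⟨y, rfl⟩, hy⟩
  · rw [plus_on_iff (Q := Q) (by rw [LinearMap.finrank_range_of_inj hf, hκ]), ← hpl]
    exact ⟨fun hh => hasHalf_map (LinearEquiv.ofInjective f hf).symm (fun v => by
        obtain ⟨x, rfl⟩ := (LinearEquiv.ofInjective f hf).surjective v
        rw [LinearEquiv.symm_apply_apply]
        rfl) hh,
      fun hh => hasHalf_map (LinearEquiv.ofInjective f hf) (fun x => rfl) hh⟩

theorem isOrth_nondeg (h2 : (2 : F) ≠ 0) {κ : Type*} [Fintype κ] {v : κ → ι → F} (h : IsOrth Q v) :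
    (QuadraticMap.polarBilin Q).Nondegenerate := by
  classical
  refine OrthOrder.nondegenerate_iff.2 fun x hx => ?_
  by_contra h0
  have hs := (h.basis h2).sum_repr x
  refine h0 ((h.basis h2).repr.injective (Finsupp.ext fun k => ?_) : x = 0)
  have h1 : QuadraticMap.polarBilin Q x (v k) = 0 := hx (v k)
  rw [← hs, map_sum, LinearMap.sum_apply, Finset.sum_eq_single k (fun j _ hj => by
    rw [map_smul, LinearMap.smul_apply, h.basis_apply h2, QuadraticMap.polarBilin_apply_apply,
      h.orth j k hj, smul_zero]) (by simp), map_smul, LinearMap.smul_apply, h.basis_apply h2,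
    QuadraticMap.polarBilin_apply_apply, FormsLib.polar_self', smul_eq_mul] at h1
  rw [map_zero, Finsupp.zero_apply]
  exact (mul_eq_zero.1 h1).resolve_right (mul_ne_zero h2 (h.ne k))

theorem isOrth_map {μ : Type} [Fintype μ] [DecidableEq μ] {Q' : QuadraticForm F (μ → F)}
    (L : (ι → F) ≃ₗ[F] (μ → F)) (hL : ∀ x, Q' (L x) = Q x) {κ : Type*} {v : κ → ι → F} (h : IsOrth Q v) :
    IsOrth Q' fun k => L (v k) := by
  refine ⟨fun i j hij => ?_, fun i => by rw [hL]; exact h.ne i, ?_⟩
  · rw [← h.orth i j hij]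
    simp only [QuadraticMap.polar, ← map_add, hL]
  · intro x _
    obtain ⟨y, rfl⟩ := L.surjective x
    have e : L y ∈ (Submodule.span F (Set.range v)).map L.toLinearMap := ⟨y, h.span trivial, rfl⟩
    rw [Submodule.map_span, ← Set.range_comp] at e
    exact e

/-- The type of a diagonal form. -/
theorem diag_half_iff (h2 : (2 : F) ≠ 0) {h : ℕ} (hh : 1 ≤ h) {v : ι → ι → F} (hv : IsOrth Q v)
    (hι : Fintype.card ι = 2 * h) :
    HasHalf (F := F) ⇑Q h ↔ cls (∏ k, Q (v k)) = cls ((-1 : F) ^ h) := by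
  classical
  obtain ⟨c₁, c₂, hab⟩ := Spinor.exists_aniso F
  have hd : Module.finrank F (ι → F) = 2 * h := by rw [Module.finrank_fintype_fun_eq_card, hι]
  rcases Spinor.equiv_plus_or_minus hh hd Q (isOrth_nondeg h2 hv) c₁ c₂ hab with ⟨L, hL⟩ | ⟨L, hL⟩
  · have hL' : ∀ x, OrthOrder.qPlus h F (L x) = Q x := fun x => by rw [OrthOrder.qPlus_apply, hL]
    refine iff_of_true (hasHalf_map L.symm (fun x => by rw [← hL, L.apply_symm_apply]) (plus_half h)) ?_
    rw [← plus_disc (F := F) h2 h, ← disc_eq h2 (isOrth_map L hL' hv) (plus_orth h2 h)]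
    simp only [hL']
  · obtain ⟨Qm, hQm, -, horth, hdisc⟩ := TwoRank.exists_minus h2 (h - 1) c₁ c₂ hab
    have hL' : ∀ x, Qm (L x) = Q x := fun x => by rw [hQm, hL]
    refine iff_of_false (fun hh' => minus_no_half (h - 1) c₁ c₂ hab ?_) ?_
    · rw [Nat.sub_add_cancel hh]
      exact hasHalf_map L hL hh'
    · rw [Nat.sub_add_cancel hh, ← disc_eq h2 (isOrth_map L hL' hv) horth] at hdisc
      simp only [hL'] at hdisc
      rw [hdisc]
      generalize cls ((-1 : F) ^ h) = e
      rcases Int.units_eq_one_or e with rfl | rfl <;> decide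

theorem exists_value (hq : Odd (Fintype.card F)) {A B : F} (hA : A ≠ 0) (hB : B ≠ 0) (c : F) :
    ∃ x y : F, x ^ 2 * A + y ^ 2 * B = c := by
  open Polynomial in
  obtain ⟨x, y, hxy⟩ := FiniteField.exists_root_sum_quadratic
    (f := C A * X ^ 2) (g := C B * X ^ 2 - C c) (degree_C_mul_X_pow 2 hA)
    (by rw [degree_sub_C (by rw [degree_C_mul_X_pow 2 hB]; decide), degree_C_mul_X_pow 2 hB]; rfl)
    (Nat.odd_iff.1 hq)
  refine ⟨x, y, ?_⟩
  simp at hxy
  linear_combination hxy

/-- An isometric involution fixes subspaces of both types. -/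
theorem involution_kind (h2 : (2 : F) ≠ 0) (hQ : (QuadraticMap.polarBilin Q).Nondegenerate)
    {g : Module.End F (ι → F)} (hg : ∀ v, Q (g v) = Q v) (hgg : ∀ v, g (g v) = v)
    {h : ℕ} (hh : 1 ≤ h) (hhn : 2 * h < Fintype.card ι) (pl : Prop) :
    ∃ W, Kind ⇑Q h pl W ∧ ∀ w ∈ W, g w ∈ W := by
  classical
  obtain ⟨v, hv, hve⟩ := exists_orth_eig h2 hQ {g} (by rintro a rfl; exact hgg)
    (by rintro a rfl b rfl; exact fun _ => rfl) (by rintro a rfl; exact hg)
  -- two vectors with the same eigenvalue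
  obtain ⟨i0, j, hne, hsame⟩ : ∃ i0 j, i0 ≠ j ∧ ((g (v i0) = v i0) ↔ (g (v j) = v j)) :=
    Fintype.exists_ne_map_eq_of_card_lt (fun k => decide (g (v k) = v k))
      (by rw [Fintype.card_bool, Fintype.card_fin]; omega) |>.imp fun a ⟨b, hab, e⟩ =>
      ⟨b, hab, decide_eq_decide.1 e⟩
  obtain ⟨I, hI1, hI2, hI⟩ := Finset.exists_subsuperset_card_eq (n := 2 * h)
    (Finset.singleton_subset_iff.2 (Finset.mem_erase.2 ⟨hne, Finset.mem_univ i0⟩) :
      {i0} ⊆ Finset.univ.erase j)
    (by simp; omega) (by rw [Finset.card_erase_of_mem (Finset.mem_univ j), Finset.card_univ, Fintype.card_fin]; omega)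
  have hi0 : i0 ∈ I := hI1 (Finset.mem_singleton_self i0)
  have hjI : ∀ k ∈ I, k ≠ j := fun k hk => (Finset.mem_erase.1 (hI2 hk)).1
  -- the value to be represented
  have hq : Odd (Fintype.card F) := Nat.odd_iff.2 (FiniteField.odd_card_of_char_ne_two (Spinor.ringChar_ne_two h2))
  obtain ⟨z, hz⟩ := FiniteField.exists_nonsquare (Spinor.ringChar_ne_two h2)
  set R := ∏ k ∈ I.erase i0, Q (v k)
  obtain ⟨c, hc0, hc⟩ : ∃ c : F, c ≠ 0 ∧ (cls (c * R) = cls ((-1 : F) ^ h) ↔ pl) := by
    have hR : R ≠ 0 := Finset.prod_ne_zero_iff.2 fun k _ => hv.ne k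
    have hz0 : z ≠ 0 := fun e => hz (e ▸ IsSquare.zero)
    have hcz : cls z = -1 := if_neg hz
    by_cases hp : (cls R = cls ((-1 : F) ^ h) ↔ pl)
    · exact ⟨1, one_ne_zero, by rwa [one_mul]⟩
    · refine ⟨z, hz0, ?_⟩
      rw [cls_mul hz0 hR, hcz]
      rcases Int.units_eq_one_or (cls R) with e | e <;>
        rcases Int.units_eq_one_or (cls ((-1 : F) ^ h)) with e' | e' <;>
        rw [e, e'] at hp ⊢ <;> by_cases hpl : pl <;> simp [hpl] at hp ⊢
  obtain ⟨x, y, hxy⟩ := exists_value hq (hv.ne i0) (hv.ne j) c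
  have horth : QuadraticMap.polar Q (v i0) (v j) = 0 := hv.orth i0 j hne
  set w := x • v i0 + y • v j
  have hw : Q w = c := by
    rw [FormsLib.quad_add, QuadraticMap.map_smul, QuadraticMap.map_smul, QuadraticMap.polar_smul_left,
      QuadraticMap.polar_smul_right, horth, ← hxy]
    simp [smul_eq_mul]
    ring
  let u : I → ι → F := fun k => if k.1 = i0 then w else v k
  have hu : ∀ k l : I, k ≠ l → QuadraticMap.polar Q (u k) (u l) = 0 := by
    intro k l hkl
    have hkl' : k.1 ≠ l.1 := fun e => hkl (Subtype.ext e)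
    have key : ∀ m : I, m.1 ≠ i0 → QuadraticMap.polar Q (v m) w = 0 := fun m hm => by
      rw [QuadraticMap.polar_add_right, QuadraticMap.polar_smul_right, QuadraticMap.polar_smul_right,
        hv.orth _ _ hm, hv.orth _ _ (hjI m.1 m.2), smul_zero, smul_zero, add_zero]
    by_cases hk : k.1 = i0 <;> by_cases hl : l.1 = i0
    · exact absurd (hk.trans hl.symm) hkl'
    · simp only [u, if_pos hk, if_neg hl]
      rw [QuadraticMap.polar_comm]; exact key l hl
    · simp only [u, if_pos hl, if_neg hk]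
      exact key k hk
    · simp only [u, if_neg hk, if_neg hl]
      exact hv.orth _ _ hkl'
  let f : (I → F) →ₗ[F] (ι → F) := Fintype.linearCombination F u
  have hfs : ∀ k, f (Pi.single k 1) = u k := fun k => by simp [f]
  have hoI : IsOrth (Q.comp f) (fun k : I => Pi.single k (1 : F)) := by
    refine ⟨fun k l hkl => ?_, fun k => ?_, ?_⟩
    · rw [polar_comp', hfs, hfs]; exact hu k l hkl
    · show Q (f _) ≠ 0
      rw [hfs]
      simp only [u]
      split
      · rw [hw]; exact hc0
      · exact hv.ne _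
    · rw [← show ⇑(Pi.basisFun F I) = fun k : I => Pi.single k (1 : F) from funext fun k => Pi.basisFun_apply F I k]
      exact (Pi.basisFun F I).span_eq.ge
  have hnd := isOrth_nondeg h2 hoI
  have hcard : Fintype.card I = 2 * h := by rw [Fintype.card_coe, hI]
  have hf : Function.Injective f := (injective_iff_map_eq_zero f).2 fun a ha =>
    hnd.1 a fun b => by
      show QuadraticMap.polar (Q.comp f) a b = 0
      rw [polar_comp', ha]
      simp [QuadraticMap.polar]
  refine ⟨LinearMap.range f, kind_range f hf hnd (by rw [Module.finrank_fintype_fun_eq_card, hcard]) ?_, ?_⟩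
  · rw [diag_half_iff h2 hh hoI hcard, ← hc]
    simp only [QuadraticMap.comp_apply, hfs]
    rw [← Finset.mul_prod_erase Finset.univ (fun k : I => Q (u k)) (Finset.mem_univ ⟨i0, hi0⟩)]
    have e1 : Q (u ⟨i0, hi0⟩) = c := by simp [u, hw]
    have e2 : ∏ k ∈ Finset.univ.erase (⟨i0, hi0⟩ : I), Q (u k) = R := by
      refine Finset.prod_bij (fun k _ => k.1) (fun k hk => Finset.mem_erase.2
        ⟨fun e => (Finset.mem_erase.1 hk).1 (Subtype.ext e), k.2⟩) (fun a _ b _ e => Subtype.ext e)
        (fun b hb => ⟨⟨b, (Finset.mem_erase.1 hb).2⟩, Finset.mem_erase.2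
          ⟨fun e => (Finset.mem_erase.1 hb).1 (congrArg Subtype.val e), Finset.mem_univ _⟩, rfl⟩)
        fun k hk => ?_
      simp only [u, if_neg (show k.1 ≠ i0 from fun e => (Finset.mem_erase.1 hk).1 (Subtype.ext e))]
    rw [e1, e2]
  · rintro _ ⟨a, rfl⟩
    have hgu : ∀ k : I, g (u k) ∈ LinearMap.range f := by
      intro k
      have hmem : u k ∈ LinearMap.range f := ⟨_, hfs k⟩
      have hcases : g (u k) = u k ∨ g (u k) = -u k := by
        simp only [u]
        split
        · rcases hve i0 g rfl with e | e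
          · left
            rw [map_add, map_smul, map_smul, e, hsame.1 e]
          · rcases hve j g rfl with e' | e'
            · left
              rw [map_add, map_smul, map_smul, e', hsame.2 e']
            · right
              rw [map_add, map_smul, map_smul, e, e']
              simp [w]
              abel
        · exact hve _ g rfl
      rcases hcases with e | e <;> rw [e]
      · exact hmem
      · exact neg_mem hmem
    show g (f a) ∈ LinearMap.range f
    rw [Fintype.linearCombination_apply, map_sum]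
    exact Submodule.sum_mem _ fun k _ => by rw [map_smul]; exact Submodule.smul_mem _ _ (hgu k)

end Diag

end Cfsg.Agent.OrthClasses
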