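import Cfsg.Agent.Lib.OrthClasses.Models
import Cfsg.Agent.Lib.OrthClasses.Types
import Cfsg.Agent.Lib.FormCentral.Bilin
import Cfsg.Agent.Lib.FormCentral.CharpolyConj
import Mathlib

/-!
Conjugacy classes of elements of prime order of an orthogonal group and their characteristic
polynomials.
-/

set_option autoImplicit false

namespace Cfsg.Agent.OrthClasses

open Polynomial FormTorus

variable {F : Type*} [Field F]

theorem charpoly_en_toMatrix {V : Type*} [AddCommGroup V] [Module F V] [FiniteDimensional F V]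
    (g : V ≃ₗ[F] V) (b : Module.Basis (Fin (Module.finrank F V)) F V) {r : ℕ} (hr : en g ^ r = 1) :
    (LinearMap.toMatrixAlgEquiv b (en g)).charpoly = (en g).charpoly ∧
      LinearMap.toMatrixAlgEquiv b (en g) ^ r = 1 :=
  ⟨LinearMap.charpoly_toMatrix _ b, by rw [← map_pow, hr, map_one]⟩

/-- The characteristic polynomial of an isometry is self-dual. -/
theorem dual_charpoly {V : Type*} [AddCommGroup V] [Module F V] [FiniteDimensional F V]
    {Q : QuadraticForm F V} (hQ : (QuadraticMap.polarBilin Q).Nondegenerate) (g : V ≃ₗ[F] V)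
    (hg : ∀ v, Q (g v) = Q v) : dual (en g).charpoly = (en g).charpoly := by
  classical
  let b := Module.finBasis F V
  set M := LinearMap.toMatrix b b (en g) with hM
  set J := LinearMap.toMatrix₂ b b (QuadraticMap.polarBilin Q) with hJ
  have hJd : IsUnit J.det := isUnit_iff_ne_zero.2 ((LinearMap.nondegenerate_iff_det_ne_zero b).1 hQ)
  have key : M.transpose * J * M = J := by
    rw [hM, hJ, ← LinearMap.toMatrix₂_compl₁₂ b b b b]
    congr 1
    refine LinearMap.ext₂ fun x y => ?_
    exact FormsLib.polar_of_mem (g := g) hg x y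
  have hMu : IsUnit M.det := by
    rw [hM, LinearMap.det_toMatrix]
    exact g.isUnit_det'
  have h1 : J * M⁻¹ * J⁻¹ = M.transpose := by
    have : J * M⁻¹ = M.transpose * J := by
      conv_lhs => rw [← key]
      rw [mul_assoc, Matrix.mul_nonsing_inv _ hMu, mul_one]
    rw [this, mul_assoc, Matrix.mul_nonsing_inv _ hJd, mul_one]
  have hJu : IsUnit J := (Matrix.isUnit_iff_isUnit_det J).2 hJd
  obtain ⟨Ju, hJu'⟩ := hJu
  have h2 : M⁻¹.charpoly = M.charpoly := by
    rw [← Matrix.charpoly_transpose M, ← h1, ← hJu', Matrix.charpoly_units_conj]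
  rw [← LinearMap.charpoly_toMatrix (en g) b, ← hM]
  conv_rhs => rw [← h2, Matrix.charpoly_inv M ((Matrix.isUnit_iff_isUnit_det M).2 hMu)]
  rw [dual, dualPoly, Polynomial.map_id, ← Matrix.reverse_charpoly, RingHom.id_apply,
    Ring.inverse_eq_inv', mul_comm M.charpoly.reverse]
  congr 1
  rw [show ((-1 : F[X]) ^ Fintype.card (Fin (Module.finrank F V))) =
    C ((-1 : F) ^ Fintype.card (Fin (Module.finrank F V))) by simp, ← C_mul,
    Matrix.det_eq_sign_charpoly_coeff, mul_inv, ← mul_assoc, ← inv_pow, inv_neg, inv_one, ← mul_pow]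
  simp

namespace Factors

variable {r i t : ℕ} (S : Factors F r i t)

theorem tuple_inj [Fintype F] {n : ℕ} {a a' : S.T → ℕ}
    (h : S2568.polyOf S.T i n a = S2568.polyOf S.T i n a') : a = a' := by
  classical
  funext y
  rw [← S2568.polyOf_count S.irr S.monic S.not_mem (i := i) (n := n) a y, h,
    S2568.polyOf_count S.irr S.monic S.not_mem a' y]

variable [Fintype F] {V : Type*} [AddCommGroup V] [Module F V] [FiniteDimensional F V]

/-- An isometry of order dividing `r` with the given characteristic polynomial. -/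
def Real (Q : QuadraticForm F V) (a : S.T → ℕ) : Prop :=
  ∃ g : V ≃ₗ[F] V, (∀ v, Q (g v) = Q v) ∧ en g ^ r = 1 ∧
    (en g).charpoly = S2568.polyOf S.T i (Module.finrank F V) a

theorem exists_tuple (hr : r.Prime) {g : V ≃ₗ[F] V} (hgr : en g ^ r = 1) :
    ∃ a : S.T → ℕ, i * ∑ y, a y ≤ Module.finrank F V ∧
      (en g).charpoly = S2568.polyOf S.T i (Module.finrank F V) a := by
  classical
  have := Fact.mk hr
  obtain ⟨hc, hp⟩ := charpoly_en_toMatrix g (Module.finBasis F V) hgr
  rw [← hc]
  set x := LinearMap.toMatrixAlgEquiv (Module.finBasis F V) (en g)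
  set P := x.charpoly with hP
  have hPm : P.Monic := x.charpoly_monic
  have hR : (X ^ r - 1 : F[X]) = cyclotomic r F * (X - C 1) := by
    rw [map_one]; exact (cyclotomic_prime_mul_X_sub_one F r).symm
  have hfac : ∀ Q ∈ UniqueFactorizationMonoid.normalizedFactors P, Q = X - C 1 ∨ Q ∈ S.T := by
    intro Q hQ
    have hirr := UniqueFactorizationMonoid.irreducible_of_normalized_factor Q hQ
    have hQm : Q.Monic := by
      rw [← UniqueFactorizationMonoid.normalize_normalized_factor Q hQ]
      exact monic_normalize hirr.ne_zero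
    have hQR := S2568.dvd_X_pow_sub_one hp hirr (UniqueFactorizationMonoid.dvd_of_mem_normalizedFactors hQ)
    rw [hR] at hQR
    rcases hirr.prime.dvd_or_dvd hQR with h | h
    · rw [← S.prod, hirr.prime.dvd_finsetProd_iff] at h
      obtain ⟨Q', hQ', hd⟩ := h
      refine Or.inr ?_
      rw [eq_of_monic_of_associated hQm (S.monic Q' hQ') (hirr.associated_of_dvd (S.irr Q' hQ') hd)]
      exact hQ'
    · exact Or.inl (eq_of_monic_of_associated hQm (monic_X_sub_C _)
        (hirr.associated_of_dvd (irreducible_X_sub_C _) h))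
  set s := UniqueFactorizationMonoid.normalizedFactors P with hs
  let a : S.T → ℕ := fun y => s.count (y : F[X])
  have hsplit : s = Multiset.replicate (s.count (X - C 1)) (X - C 1) +
      ∑ y : S.T, Multiset.replicate (a y) (y : F[X]) := by
    ext Q
    rw [Multiset.count_add, Multiset.count_replicate, Multiset.count_sum']
    simp only [Multiset.count_replicate, a]
    by_cases hQ : Q ∈ S.T
    · rw [if_neg (fun h => S.not_mem (by rw [h]; exact hQ)), zero_add, Finset.sum_eq_single ⟨Q, hQ⟩]
      · simp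
      · intro z _ hz; rw [if_neg (fun h => hz (Subtype.ext h))]
      · simp
    · rw [Finset.sum_eq_zero (fun z _ => if_neg (fun h => hQ (by rw [← h]; exact z.2))), add_zero]
      split_ifs with h
      · rw [h]
      · rw [Multiset.count_eq_zero]
        exact fun hm => (hfac Q hm).elim (fun e => h e.symm) hQ
  have hprod : P = (X - C 1) ^ s.count (X - C 1) * ∏ y : S.T, (y : F[X]) ^ a y := by
    conv_lhs => rw [← hPm.normalize_eq_self,
      ← UniqueFactorizationMonoid.prod_normalizedFactors_eq hPm.ne_zero, ← hs, hsplit]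
    rw [Multiset.prod_add, Multiset.prod_replicate, Multiset.prod_sum]
    simp [Multiset.prod_replicate]
  have hdegP : Module.finrank F V = s.count (X - C 1) + i * ∑ y, a y := by
    have h := congrArg natDegree hprod
    rw [Matrix.charpoly_natDegree_eq_dim, Fintype.card_fin,
      ((monic_X_sub_C (1 : F)).pow _).natDegree_mul
        (monic_prod_of_monic _ _ fun y _ => (S.monic _ y.2).pow _),
      natDegree_prod_of_monic _ _ (fun y _ => (S.monic _ y.2).pow _), natDegree_pow,
      natDegree_X_sub_C, mul_one] at h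
    simp only [natDegree_pow] at h
    rw [show ∑ y : S.T, a y * (y : F[X]).natDegree = i * ∑ y, a y by
      rw [Finset.mul_sum]; exact Finset.sum_congr rfl fun y _ => by rw [S.deg _ y.2, mul_comm]] at h
    exact h
  refine ⟨a, by omega, ?_⟩
  rw [hprod, S2568.polyOf, show Module.finrank F V - i * ∑ y, a y = s.count (X - C 1) by omega]

theorem sym_of_real (hr : r.Prime) (hr0 : (r : F) ≠ 0) {Q : QuadraticForm F V}
    (hQ : (QuadraticMap.polarBilin Q).Nondegenerate) {a : S.T → ℕ} (h : S.Real Q a) (y : S.T) :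
    a (S.star hr hr0 y) = a y := by
  obtain ⟨g, hg, -, hc⟩ := h
  have hd := dual_charpoly hQ g hg
  rw [hc] at hd
  suffices (fun y => a (S.star hr hr0 y)) = a from congrFun this y
  refine S.tuple_inj (n := Module.finrank F V) ?_
  conv_rhs => rw [← hd]
  rw [S2568.polyOf, S2568.polyOf, dual, dualPoly_mul, ← dual, ← dual, dual_pow, dual_X_sub_one, dual_prod,
    Equiv.sum_comp (S.star hr hr0) a]
  congr 1
  refine Fintype.prod_equiv (S.star hr hr0) _ _ fun y => ?_
  rw [dual_pow, S.star_apply, S.dual_dual hr y.2]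

theorem bound_of_real (hr : r.Prime) {Q : QuadraticForm F V} {a : S.T → ℕ} (h : S.Real Q a) :
    i * ∑ y, a y ≤ Module.finrank F V := by
  obtain ⟨g, -, hgr, hc⟩ := h
  obtain ⟨a', ha', hc'⟩ := S.exists_tuple hr hgr
  rwa [S.tuple_inj (hc.symm.trans hc')]

theorem fixfree_of_full (hr : r.Prime) (hr0 : (r : F) ≠ 0) {g : V ≃ₗ[F] V} {a : S.T → ℕ}
    (hc : (en g).charpoly = S2568.polyOf S.T i (Module.finrank F V) a)
    (hfull : i * ∑ y, a y = Module.finrank F V) (v : V) (hv : g v = v) : v = 0 := by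
  by_contra h0
  have he : Module.End.HasEigenvalue (en g) 1 :=
    Module.End.hasEigenvalue_of_hasEigenvector ⟨Module.End.mem_eigenspace_iff.2 (by simpa [en] using hv), h0⟩
  rw [Module.End.hasEigenvalue_iff_isRoot_charpoly, hc, IsRoot, S2568.polyOf, hfull, Nat.sub_self,
    pow_zero, one_mul, eval_prod, Finset.prod_eq_zero_iff] at he
  obtain ⟨y, -, hy⟩ := he
  rw [eval_pow] at hy
  refine S.root_ne_one hr hr0 y.2 (K := F) (a := 1) ?_ rfl
  rw [coe_aeval_eq_eval]
  exact eq_zero_of_pow_eq_zero hy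

include S in
/-- With no fixed vector and odd `i` the space has maximal index. -/
theorem half_of_odd (hr : r.Prime) (hr2 : r ≠ 2) (hr0 : (r : F) ≠ 0) (ho : Odd i) {k : ℕ}
    (hV : Module.finrank F V = 2 * k) {Q : QuadraticForm F V}
    (hQ : (QuadraticMap.polarBilin Q).Nondegenerate) (g : V ≃ₗ[F] V) (hg : ∀ v, Q (g v) = Q v)
    (hgr : en g ^ r = 1) (hfix : ∀ v, g v = v → v = 0) : HasHalf (F := F) ⇑Q k := by
  classical
  have := Fact.mk hr
  obtain ⟨H, hH⟩ := exists_half (S.star hr hr0) (S.star_star hr hr0)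
    (fun y h => S.dual_ne_self hr hr2 ho y.2 (congrArg Subtype.val h))
  set f : F[X] := ∏ y ∈ Finset.univ.filter H, (y : F[X]) with hf
  have hmem : ∀ y : S.T, y ∈ Finset.univ.filter H ↔
      S.star hr hr0 y ∈ Finset.univ.filter (fun y => ¬ H y) := fun y => by simp [hH]
  have hdf : dual f = ∏ y ∈ Finset.univ.filter (fun y => ¬ H y), (y : F[X]) := by
    rw [hf, dual_prod]
    exact Finset.prod_equiv (S.star hr hr0) hmem fun y _ => rfl
  have hdd : dual (dual f) = f := by
    rw [hf, dual_prod, dual_prod]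
    exact Finset.prod_congr rfl fun y _ => S.dual_dual hr y.2
  have hff : f * dual f = cyclotomic r F := by
    rw [hdf, hf, Finset.prod_filter_mul_prod_filter_not, ← S.prod]
    exact Finset.prod_coe_sort S.T (fun P => P)
  have hzero : aeval (en g) (f * dual f) = 0 := by
    rw [hff]
    refine LinearMap.ext fun v => hfix _ (sub_eq_zero.1 ?_)
    have h := congrArg (fun P => aeval (en g) P v)
      ((mul_comm (X - 1 : F[X]) _).trans (cyclotomic_prime_mul_X_sub_one F r))
    simpa [hgr] using h
  have hco : IsCoprime f (dual f) := by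
    have hsq : (f * dual f).Separable := by
      rw [hff]
      exact (separable_X_pow_sub_C (1 : F) hr0 one_ne_zero).of_dvd
        ⟨X - C 1, by rw [map_one]; exact (cyclotomic_prime_mul_X_sub_one F r).symm⟩
    exact hsq.isCoprime
  set B : LinearMap.BilinForm F V := QuadraticMap.polarBilin Q with hB
  have hpres : FormsLib.Preserves B g := fun u v => FormsLib.polar_of_mem (g := g) hg u v
  obtain ⟨hcompl, hr1⟩ := ker_split hco (T := en g) hzero
  obtain ⟨-, hr2'⟩ := ker_split hco.symm (T := en g) (by rwa [mul_comm])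
  have hts : ∀ (P P' : F[X]), dual P = P' →
      LinearMap.range (aeval (en g) P') = LinearMap.ker (aeval (en g) P) →
      2 * Module.finrank F (LinearMap.ker (aeval (en g) P)) ≤ 2 * k ∧
        ∀ u ∈ LinearMap.ker (aeval (en g) P), Q u = 0 := by
    intro P P' hP hrange
    set W := LinearMap.ker (aeval (en g) P) with hW
    have hpol : ∀ u ∈ W, ∀ v ∈ W, QuadraticMap.polar Q u v = 0 := by
      intro u hu v hv
      rw [← hrange] at hv
      obtain ⟨w, rfl⟩ := hv
      rw [← hP]
      exact orth_dual hpres (LinearMap.mem_ker.1 hu) w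
    refine ⟨?_, fun u hu => ?_⟩
    · have hle : W ≤ LinearMap.BilinForm.orthogonal B W := fun v hv u hu => hpol u hu v hv
      have h1 := Submodule.finrank_mono hle
      have h2 := Spinor.finrank_split hQ (W := W)
      rw [← hB] at h2
      omega
    · have hgW : ∀ w ∈ W, g w ∈ W := fun w hw => by
        rw [hW, LinearMap.mem_ker] at hw ⊢
        have hc : Commute (en g) (aeval (en g) P) := by
          nth_rw 1 [← aeval_X (R := F) (en g)]
          exact (Commute.all (X : F[X]) P).map _
        rw [show g w = en g w from rfl, ← Module.End.mul_apply, ← hc.eq, Module.End.mul_apply, hw, map_zero]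
      let d : W →ₗ[F] W := (en g).restrict hgW - LinearMap.id
      have hd : Function.Injective d := (injective_iff_map_eq_zero d).2 fun w hw =>
        Subtype.ext (hfix w.1 (sub_eq_zero.1 (congrArg Subtype.val hw)))
      obtain ⟨w, hw⟩ := (LinearMap.injective_iff_surjective.1 hd) ⟨u, hu⟩
      have hu' : u = g w.1 - w.1 := (congrArg Subtype.val hw).symm
      have hpw := hpol _ (hgW _ w.2) _ w.2
      have hp2 := hpol _ w.2 _ w.2
      rw [QuadraticMap.polar_self, two_nsmul] at hp2
      rw [hu', sub_eq_add_neg, FormsLib.quad_add, QuadraticMap.map_neg, hg, QuadraticMap.polar_neg_right,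
        hpw, neg_zero, add_zero, hp2]
  obtain ⟨h1, h1'⟩ := hts f (dual f) rfl hr2'
  obtain ⟨h2, -⟩ := hts (dual f) f hdd hr1
  have hsum := Submodule.finrank_add_eq_of_isCompl hcompl
  exact ⟨_, by omega, h1'⟩

/-- A tuple is realised on any space that splits as a block and a fixed space, up to a scalar. -/
theorem real_of_split {Q : QuadraticForm F V} {a : S.T → ℕ} {n₀ : ℕ}
    (Q₁ : QuadraticForm F (Fin (i * ∑ y, a y) → F))
    (g₁ : (Fin (i * ∑ y, a y) → F) ≃ₗ[F] (Fin (i * ∑ y, a y) → F)) (hg₁ : ∀ v, Q₁ (g₁ v) = Q₁ v)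
    (hr₁ : en g₁ ^ r = 1) (hc₁ : (en g₁).charpoly = ∏ y : S.T, (y : F[X]) ^ a y)
    (Q₀ : QuadraticForm F (Fin n₀ → F))
    (L : ((Fin (i * ∑ y, a y) → F) × (Fin n₀ → F)) ≃ₗ[F] V) {c : F}
    (hL : ∀ v, Q (L v) = c * (Q₁ v.1 + Q₀ v.2)) : S.Real Q a := by
  let g₀ := g₁.prodCongr (LinearEquiv.refl F (Fin n₀ → F))
  let g : V ≃ₗ[F] V := (L.symm.trans g₀).trans L
  have hn : Module.finrank F V = i * ∑ y, a y + n₀ := by
    rw [← L.finrank_eq, Module.finrank_prod, Module.finrank_fin_fun, Module.finrank_fin_fun]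
  have he : en g = L.conjAlgEquiv F ((en g₁).prodMap (1 : Module.End F (Fin n₀ → F))) :=
    LinearMap.ext fun v => rfl
  refine ⟨g, fun v => ?_, ?_, ?_⟩
  · conv_rhs => rw [← L.apply_symm_apply v, hL]
    show Q (L (g₀ (L.symm v))) = _
    rw [hL]
    show c * (Q₁ (g₁ (L.symm v).1) + Q₀ (L.symm v).2) = _
    rw [hg₁]
  · rw [he, ← map_pow]
    show L.conjAlgEquiv F ((LinearMap.prodMapRingHom F _ _ (en g₁, 1)) ^ r) = 1
    rw [← map_pow, Prod.pow_mk, hr₁, one_pow]
    exact map_one _
  · rw [he]
    show (L.conj ((en g₁).prodMap 1)).charpoly = _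
    rw [L.charpoly_conj, LinearMap.charpoly_prodMap, hc₁, LinearMap.charpoly_one,
      Module.finrank_fin_fun, S2568.polyOf, hn, Nat.add_sub_cancel_left, map_one, mul_comm]

end Factors

/-- Classes of elements of order `r` correspond to non-zero realised tuples. -/
theorem Factors.card_classes [Fintype F] {r i t : ℕ} (S : Factors F r i t) (hr : r.Prime) (hr2 : r ≠ 2)
    (hr0 : (r : F) ≠ 0) {ι : Type} [Fintype ι] [DecidableEq ι] {Q : QuadraticForm F (ι → F)}
    {Qc : (ι → F) → F} (hQc : ⇑Q = Qc) (hQ : (QuadraticMap.polarBilin Q).Nondegenerate) :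
    Nat.card {C : ConjClasses ↥(Cfsg.isometryGroup F Qc) //
      ∃ g : ↥(Cfsg.isometryGroup F Qc), ConjClasses.mk g = C ∧ orderOf g = r} =
    Nat.card {a : S.T → ℕ // a ≠ 0 ∧ S.Real Q a} := by
  classical
  subst hQc
  set n := Module.finrank F (ι → F)
  have hzero : S2568.polyOf S.T i n 0 = (X - C 1) ^ n := by simp [S2568.polyOf]
  choose g hg hgr hgc using fun a : {a : S.T → ℕ // a ≠ 0 ∧ S.Real Q a} => a.2.2
  let x := fun a => (FormsLib.oEquiv Q).symm ⟨g a, hg a⟩
  have hx : ∀ a, (FormsLib.oEquiv Q (x a)).1 = g a := fun a => by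
    simp only [x, MulEquiv.apply_symm_apply]
  have hord : ∀ a, orderOf (x a) = r := fun a => by
    have := Fact.mk hr
    refine orderOf_eq_prime ?_ fun h1 => a.2.1 (S.tuple_inj (n := n) ?_)
    · apply (FormsLib.oEquiv Q).injective
      rw [map_pow, map_one]
      refine Subtype.ext (LinearEquiv.toLinearMap_injective ?_)
      rw [Subgroup.coe_pow, hx, Subgroup.coe_one]
      exact (map_pow (LinearEquiv.automorphismGroup.toLinearMapMonoidHom (R := F) (M := ι → F)) (g a) r).trans
        (hgr a)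
    · have := hx a
      rw [h1, map_one] at this
      rw [← hgc a, ← this, hzero]
      show LinearMap.charpoly (1 : Module.End F (ι → F)) = _
      rw [LinearMap.charpoly_one, map_one]
  let Φ : {a : S.T → ℕ // a ≠ 0 ∧ S.Real Q a} → {C : ConjClasses ↥(Cfsg.isometryGroup F ⇑Q) //
      ∃ g : ↥(Cfsg.isometryGroup F ⇑Q), ConjClasses.mk g = C ∧ orderOf g = r} :=
    fun a => ⟨ConjClasses.mk (x a), x a, rfl, hord a⟩
  refine (Nat.card_congr (Equiv.ofBijective Φ ⟨fun a b h => ?_, ?_⟩)).symm
  · obtain ⟨c, hc⟩ := isConj_iff.1 (ConjClasses.mk_eq_mk_iff_isConj.1 (congrArg Subtype.val h))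
    have h' := congrArg (fun y => (FormsLib.oEquiv Q y).1) hc
    simp only [map_mul, map_inv, Subgroup.coe_mul, Subgroup.coe_inv, hx] at h'
    refine Subtype.ext (S.tuple_inj (n := n) ?_)
    rw [← hgc a, ← hgc b, ← h', ← LinearEquiv.charpoly_conj (FormsLib.oEquiv Q c).1 (en (g a))]
    rfl
  · rintro ⟨C, y, rfl, hy⟩
    set g' := (FormsLib.oEquiv Q y).1 with hg'
    have hgr' : en g' ^ r = 1 := by
      have h := congrArg (fun z => (FormsLib.oEquiv Q z).1)
        (show y ^ r = 1 by rw [← hy, pow_orderOf_eq_one])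
      simp only [map_pow, map_one, Subgroup.coe_pow, Subgroup.coe_one] at h
      exact (map_pow (LinearEquiv.automorphismGroup.toLinearMapMonoidHom (R := F) (M := ι → F)) g' r).symm.trans
        (congrArg _ h)
    obtain ⟨a, -, hac⟩ := S.exists_tuple hr hgr'
    have hreal : S.Real Q a := ⟨g', (FormsLib.oEquiv Q y).2, hgr', hac⟩
    have hss : ∀ h : (ι → F) ≃ₗ[F] (ι → F), en h ^ r = 1 → Module.End.IsSemisimple (en h) :=
      fun h hh => FormCentral.isSemisimple_of_pow hr0 hh
    have hconj : ∀ z : ↥(Cfsg.isometryGroup F ⇑Q), en (FormsLib.oEquiv Q z).1 ^ r = 1 →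
        (en (FormsLib.oEquiv Q z).1).charpoly = (en g').charpoly → IsConj z y := by
      intro z hz hzc
      obtain ⟨P, hP⟩ := FormCentral.exists_intertwine_of_charpoly _ _ (hss _ hz) (hss _ hgr') hzc
      obtain ⟨w, hw, hwz⟩ := FormCentral.exists_orth_intertwine hQ _ _ (FormsLib.oEquiv Q z).2
        (FormsLib.oEquiv Q y).2 P hP (hr.odd_of_ne_two hr2) hr0 hz
      refine isConj_iff.2 ⟨(FormsLib.oEquiv Q).symm ⟨w, hw⟩, mul_inv_eq_iff_eq_mul.2 ?_⟩
      apply (FormsLib.oEquiv Q).injective
      rw [map_mul, map_mul, MulEquiv.apply_symm_apply]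
      exact Subtype.ext (LinearEquiv.ext fun v => hwz v)
    have ha0 : a ≠ 0 := fun h0 => by
      have h1 := hconj 1 (by rw [map_one]; exact one_pow r) (by
        rw [hac, h0, hzero, map_one]
        show LinearMap.charpoly (1 : Module.End F (ι → F)) = _
        rw [LinearMap.charpoly_one, map_one])
      rw [isConj_one_right.1 h1, orderOf_one] at hy
      exact hr.one_lt.ne hy
    refine ⟨⟨a, ha0, hreal⟩, Subtype.ext (ConjClasses.mk_eq_mk_iff_isConj.2 (hconj _ ?_ ?_))⟩
    · rw [hx]; exact hgr _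
    · rw [hx, hgc, hac]

end Cfsg.Agent.OrthClasses
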