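import Cfsg.Agent.Lib.OrthClasses.Tuples
import Cfsg.Agent.Lib.TransvMax.JordanRows
import Cfsg.Agent.Lib.Spinor.Trans
import Cfsg.Prelude.Def_GeometricClasses
import Mathlib

/-!
Non-degenerate subspaces left invariant by isometries of odd prime order.
-/

set_option autoImplicit false
set_option linter.unusedSectionVars false

namespace Cfsg.Agent.OrthClasses

open Polynomial FormTorus

theorem exists_le_sum {α : Type*} [DecidableEq α] (s : Finset α) (a : α → ℕ) :
    ∀ σ ≤ ∑ x ∈ s, a x, ∃ b : α → ℕ, (∀ x, b x ≤ a x) ∧ ∑ x ∈ s, b x = σ := by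
  induction s using Finset.induction_on with
  | empty => exact fun σ h => ⟨0, fun x => Nat.zero_le _, by simp at h ⊢; omega⟩
  | @insert y s hy ih =>
    intro σ h
    rw [Finset.sum_insert hy] at h
    obtain ⟨b, hb, hs⟩ := ih (σ - a y) (by omega)
    refine ⟨Function.update b y (min σ (a y)), fun x => ?_, ?_⟩
    · rcases eq_or_ne x y with rfl | hx
      · simp
      · simpa [hx] using hb x
    · rw [Finset.sum_insert hy, Function.update_self, Finset.sum_update_of_notMem hy, hs]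
      omega

theorem elusive_arith {c n h : ℕ} (hc : 0 < c) (hce : Even c) (hno : Odd n) (hn : 2 * h < n) (P : ℕ → Prop)
    (hsmall : 2 * h < c → ¬ 2 * h < n % c) :
    (∀ u, 1 ≤ u → c * u ≤ n → ∃ v ≤ u, c * v ≤ 2 * h ∧ c * u + 2 * h ≤ n + c * v ∧ (c * v = 2 * h → P v)) ↔
      (c ≤ 2 * h ∧ 2 * h % c < n % c ∧ (2 * h % c = 0 → P (2 * h / c))) := by
  have hk := Nat.mod_add_div n c
  have hl := Nat.mod_add_div (2 * h) c
  have hk' := Nat.mod_lt n hc
  have hl' := Nat.mod_lt (2 * h) hc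
  constructor
  · intro H
    have hcn : c ≤ n := by
      by_contra hlt
      rw [Nat.mod_eq_of_lt (by omega : n < c)] at hsmall
      exact hsmall (by omega) hn
    obtain ⟨v, -, h1, h2, h3⟩ := H (n / c) (Nat.div_pos hcn hc) (by omega)
    have hvM : v ≤ 2 * h / c := (Nat.le_div_iff_mul_le hc).2 (by linarith)
    have hv : v = 2 * h / c := by
      by_contra hne
      have h4 : c * (v + 1) ≤ c * (2 * h / c) := Nat.mul_le_mul_left c (by omega)
      rw [Nat.mul_add, mul_one] at h4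
      omega
    subst hv
    have hle : 2 * h % c ≤ n % c := by omega
    have hodd : Odd (n % c) := by
      rw [Nat.odd_iff] at hno ⊢
      obtain ⟨j, rfl⟩ := hce
      rw [← hk, show (j + j) * (n / (j + j)) = 2 * (j * (n / (j + j))) by ring] at hno
      omega
    have hev : Even (2 * h % c) := by
      rw [Nat.even_iff]
      obtain ⟨j, rfl⟩ := hce
      have h5 := hl
      rw [show (j + j) * (2 * h / (j + j)) = 2 * (j * (2 * h / (j + j))) by ring] at h5
      omega
    have hlt : 2 * h % c < n % c := by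
      rcases Nat.lt_or_ge (2 * h % c) (n % c) with h6 | h6
      · exact h6
      · have : 2 * h % c = n % c := by omega
        exact absurd (this ▸ hev) (Nat.not_even_iff_odd.2 hodd)
    refine ⟨?_, hlt, fun h0 => h3 (by omega)⟩
    by_contra hch
    exact hsmall (by omega) (by rwa [Nat.mod_eq_of_lt (by omega : 2 * h < c)] at hlt)
  · rintro ⟨-, hlt, hP⟩ u hu hcu
    have huU : u ≤ n / c := (Nat.le_div_iff_mul_le hc).2 (by linarith)
    rcases Nat.lt_or_ge (2 * h / c) u with hM | hM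
    · refine ⟨2 * h / c, hM.le, by omega, ?_, fun e => hP (by omega)⟩
      have := Nat.mul_le_mul_left c huU
      omega
    · have h1 := Nat.mul_le_mul_left c hM
      refine ⟨u, le_rfl, by omega, by omega, fun e => ?_⟩
      have h2 : u = 2 * h / c := by
        rw [← e, Nat.mul_div_cancel_left _ hc]
      exact h2 ▸ hP (by rw [← e]; exact Nat.mul_mod_right c u)

section Space

variable {F : Type*} [Field F] {ι : Type} [Fintype ι] [DecidableEq ι] {Q : QuadraticForm F (ι → F)}

/-- A non-degenerate subspace of given dimension and type. -/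
def Kind (Q : (ι → F) → F) (h : ℕ) (pl : Prop) (W : Submodule F (ι → F)) : Prop :=
  Module.finrank F W = 2 * h ∧ Cfsg.Geo.IsNondegenerateOn (QuadraticMap.polar Q) W ∧
    (Cfsg.Geo.IsPlusTypeOn Q W ↔ pl)

theorem polar_comp' {V V' : Type*} [AddCommGroup V] [Module F V] [AddCommGroup V'] [Module F V']
    (Q : QuadraticForm F V') (f : V →ₗ[F] V') (x y : V) :
    QuadraticMap.polar (Q.comp f) x y = QuadraticMap.polar Q (f x) (f y) := by
  simp [QuadraticMap.polar]

theorem nondeg_on_iff (W : Submodule F (ι → F)) :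
    Cfsg.Geo.IsNondegenerateOn (QuadraticMap.polar ⇑Q) W ↔
      (QuadraticMap.polarBilin (Q.comp W.subtype)).Nondegenerate := by
  constructor
  · intro h
    refine OrthOrder.nondegenerate_iff.2 fun w hw => ?_
    by_contra h0
    obtain ⟨x, hx, hne⟩ := (h w w.2 fun e => h0 (Subtype.ext e)).2
    have := hw ⟨x, hx⟩
    rw [polar_comp'] at this
    exact hne this
  · intro h w hw hw0
    have key : ∃ x ∈ W, QuadraticMap.polar (⇑Q) w x ≠ 0 := by
      by_contra hc
      push Not at hc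
      exact hw0 (congrArg Subtype.val (h.1 ⟨w, hw⟩ fun x => by
        show QuadraticMap.polar (Q.comp W.subtype) _ _ = 0
        rw [polar_comp']; exact hc x.1 x.2))
    obtain ⟨x, hx, hne⟩ := key
    exact ⟨⟨x, hx, by rwa [QuadraticMap.polar_comm]⟩, x, hx, hne⟩

theorem plus_on_iff {h : ℕ} {W : Submodule F (ι → F)} (hW : Module.finrank F W = 2 * h) :
    Cfsg.Geo.IsPlusTypeOn ⇑Q W ↔ HasHalf (F := F) ⇑(Q.comp W.subtype) h := by
  constructor
  · rintro ⟨U, hUW, hU, hd⟩
    refine ⟨U.comap W.subtype, ?_, fun v hv => hU _ hv⟩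
    rw [(Submodule.comapSubtypeEquivOfLe hUW).finrank_eq]
    omega
  · rintro ⟨U, hU, hU0⟩
    refine ⟨U.map W.subtype, Submodule.map_subtype_le W U, ?_, ?_⟩
    · rintro _ ⟨v, hv, rfl⟩
      exact hU0 v hv
    · rw [(Submodule.equivMapOfInjective _ W.injective_subtype U).finrank_eq.symm, hW, hU]

theorem half_scale {V : Type*} [AddCommGroup V] [Module F V] {f : V → F} {c : F} (hc : c ≠ 0) (h : ℕ) :
    HasHalf (F := F) (fun v => c * f v) h ↔ HasHalf (F := F) f h := by
  constructor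
  · rintro ⟨U, hU, h0⟩
    exact ⟨U, hU, fun v hv => (mul_eq_zero.1 (h0 v hv)).resolve_left hc⟩
  · rintro ⟨U, hU, h0⟩
    exact ⟨U, hU, fun v hv => by show c * f v = 0; rw [h0 v hv, mul_zero]⟩

theorem isCompl_orth (hQ : (QuadraticMap.polarBilin Q).Nondegenerate) {W : Submodule F (ι → F)}
    (hW : Cfsg.Geo.IsNondegenerateOn (QuadraticMap.polar ⇑Q) W) :
    IsCompl W (LinearMap.BilinForm.orthogonal (QuadraticMap.polarBilin Q) W) := by
  have hd : W ⊓ LinearMap.BilinForm.orthogonal (QuadraticMap.polarBilin Q) W = ⊥ := by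
    refine (Submodule.eq_bot_iff _).2 fun w hw => ?_
    by_contra h0
    obtain ⟨x, hx, hne⟩ := (hW w hw.1 h0).1
    exact hne (hw.2 x hx)
  refine (Submodule.isCompl_iff_disjoint _ _ ?_).2 (disjoint_iff.2 hd)
  rw [Spinor.finrank_split hQ]

theorem orth_mapsTo {g : (ι → F) ≃ₗ[F] (ι → F)} (hg : ∀ v, Q (g v) = Q v) {W : Submodule F (ι → F)}
    (hW : ∀ w ∈ W, g w ∈ W) : ∀ u ∈ LinearMap.BilinForm.orthogonal (QuadraticMap.polarBilin Q) W,
      g u ∈ LinearMap.BilinForm.orthogonal (QuadraticMap.polarBilin Q) W := by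
  intro u hu w hw
  let f : W →ₗ[F] W := (en g).restrict hW
  have hf : Function.Injective f := fun a b e => Subtype.ext (g.injective (congrArg Subtype.val e))
  obtain ⟨w', hw'⟩ := LinearMap.injective_iff_surjective.1 hf ⟨w, hw⟩
  have e : g w'.1 = w := congrArg Subtype.val hw'
  show QuadraticMap.polar Q w (g u) = 0
  rw [← e, FormsLib.polar_of_mem (g := g) hg]
  exact hu _ w'.2

theorem exists_restrict {g : (ι → F) ≃ₗ[F] (ι → F)} {r : ℕ} (hgr : en g ^ r = 1)
    {W : Submodule F (ι → F)} (hW : ∀ w ∈ W, g w ∈ W) :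
    ∃ gW : W ≃ₗ[F] W, (∀ w : W, (gW w : ι → F) = g w) ∧ en gW ^ r = 1 := by
  let f : W →ₗ[F] W := (en g).restrict hW
  have hf : Function.Injective f := fun a b e => Subtype.ext (g.injective (congrArg Subtype.val e))
  refine ⟨LinearEquiv.ofBijective f ⟨hf, LinearMap.injective_iff_surjective.1 hf⟩, fun w => rfl, ?_⟩
  refine LinearMap.ext fun w => Subtype.ext ?_
  have h : ∀ (j : ℕ) (w : W), ((f ^ j) w : ι → F) = (en g ^ j) w := by
    intro j
    induction j with
    | zero => intro w; rfl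
    | succ j ih =>
      intro w
      rw [pow_succ', pow_succ', Module.End.mul_apply, Module.End.mul_apply, ← ih]
      rfl
  show ((f ^ r) w : ι → F) = w
  rw [h, hgr]
  rfl

variable [Fintype F] {r i t : ℕ} (S : Factors F r i t)

theorem Factors.eq_one_of_zero (hr0 : (r : F) ≠ 0) {V : Type*} [AddCommGroup V] [Module F V]
    [FiniteDimensional F V] {g : V ≃ₗ[F] V} (hgr : en g ^ r = 1)
    (hc : (en g).charpoly = S2568.polyOf S.T i (Module.finrank F V) 0) (v : V) : g v = v := by
  have h0 : S2568.polyOf S.T i (Module.finrank F V) 0 = (X - C 1) ^ Module.finrank F V := by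
    simp [S2568.polyOf]
  obtain ⟨P, hP⟩ := FormCentral.exists_intertwine_of_charpoly (en g) (1 : Module.End F V)
    (FormCentral.isSemisimple_of_pow hr0 hgr) (FormCentral.isSemisimple_of_pow hr0 (one_pow r))
    (by rw [hc, h0, LinearMap.charpoly_one, map_one])
  exact P.injective (hP v)

/-- The tuple of an isometry splits along an invariant non-degenerate subspace. -/
theorem Factors.split (hr : r.Prime) (hr0 : (r : F) ≠ 0)
    (hQ : (QuadraticMap.polarBilin Q).Nondegenerate) {g : (ι → F) ≃ₗ[F] (ι → F)}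
    (hg : ∀ v, Q (g v) = Q v) (hgr : en g ^ r = 1) {a : S.T → ℕ}
    (hc : (en g).charpoly = S2568.polyOf S.T i (Module.finrank F (ι → F)) a)
    {W : Submodule F (ι → F)} (hW : Cfsg.Geo.IsNondegenerateOn (QuadraticMap.polar ⇑Q) W)
    (hWg : ∀ w ∈ W, g w ∈ W) :
    ∃ (b : S.T → ℕ) (gW : W ≃ₗ[F] W), (∀ w : W, (gW w : ι → F) = g w) ∧ en gW ^ r = 1 ∧
      (en gW).charpoly = S2568.polyOf S.T i (Module.finrank F W) b ∧
      (∀ y, b (S.star hr hr0 y) = b y) ∧
      (∀ y, b y ≤ a y) ∧ i * ∑ y, b y ≤ Module.finrank F W ∧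
      i * ∑ y, a y + Module.finrank F W ≤ Module.finrank F (ι → F) + i * ∑ y, b y := by
  classical
  have hcompl := isCompl_orth hQ hW
  obtain ⟨gW, hgW, hgWr⟩ := exists_restrict hgr hWg
  obtain ⟨gU, hgU, hgUr⟩ := exists_restrict hgr (orth_mapsTo hg hWg)
  obtain ⟨b, hb, hbc⟩ := S.exists_tuple hr hgWr
  obtain ⟨b', hb', hbc'⟩ := S.exists_tuple hr hgUr
  let L := Submodule.prodEquivOfIsCompl W _ hcompl
  have he : en g = L.conj ((en gW).prodMap (en gU)) := by
    refine LinearMap.ext fun v => ?_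
    obtain ⟨x, rfl⟩ := L.surjective v
    rw [LinearEquiv.conj_apply_apply, L.symm_apply_apply]
    simp [L, hgW, hgU]
  have hsum := Submodule.finrank_add_eq_of_isCompl hcompl
  have hab : a = fun y => b y + b' y := by
    refine S.tuple_inj (n := Module.finrank F (ι → F)) ?_
    rw [← hc, he, L.charpoly_conj, LinearMap.charpoly_prodMap, hbc, hbc', S2568.polyOf, S2568.polyOf,
      S2568.polyOf, Finset.sum_add_distrib, Nat.mul_add,
      show Module.finrank F (ι → F) - (i * ∑ y, b y + i * ∑ y, b' y) =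
        (Module.finrank F W - i * ∑ y, b y) +
          (Module.finrank F (LinearMap.BilinForm.orthogonal (QuadraticMap.polarBilin Q) W) -
            i * ∑ y, b' y) by omega,
      pow_add, ← mul_mul_mul_comm, ← Finset.prod_mul_distrib]
    simp_rw [pow_add]
  refine ⟨b, gW, hgW, hgWr, hbc, S.sym_of_real hr hr0 ((nondeg_on_iff W).1 hW)
    ⟨gW, fun w => ?_, hgWr, hbc⟩, fun y => by rw [hab]; exact Nat.le_add_right _ _, hb, ?_⟩
  · show Q (gW w : ι → F) = Q (w : ι → F)
    rw [hgW, hg]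
  · rw [hab, Finset.sum_add_distrib, Nat.mul_add]
    omega

/-- The moved part of an isometry of order dividing `r`. -/
theorem moved_facts (hr0 : (r : F) ≠ 0) (hQ : (QuadraticMap.polarBilin Q).Nondegenerate)
    {g : (ι → F) ≃ₗ[F] (ι → F)} (hg : ∀ v, Q (g v) = Q v) (hgr : en g ^ r = 1) :
    Cfsg.Geo.IsNondegenerateOn (QuadraticMap.polar ⇑Q) (LinearMap.range (en g - 1)) ∧
      LinearMap.BilinForm.orthogonal (QuadraticMap.polarBilin Q) (LinearMap.range (en g - 1)) =
        LinearMap.ker (en g - 1) := by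
  set M := LinearMap.range (en g - 1)
  set N := LinearMap.ker (en g - 1)
  have hle : N ≤ LinearMap.BilinForm.orthogonal (QuadraticMap.polarBilin Q) M := by
    rintro w hw _ ⟨v, rfl⟩
    have hw' : g w = w := sub_eq_zero.1 hw
    show QuadraticMap.polar Q (g v - v) w = 0
    rw [QuadraticMap.polar_sub_left]
    conv_lhs => arg 1; rw [← hw', FormsLib.polar_of_mem (g := g) hg]
    rw [sub_self]
  have hd1 : Module.finrank F M + Module.finrank F N = Module.finrank F (ι → F) :=
    LinearMap.finrank_range_add_finrank_ker _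
  have hd2 : Module.finrank F M +
      Module.finrank F (LinearMap.BilinForm.orthogonal (QuadraticMap.polarBilin Q) M) =
        Module.finrank F (ι → F) := Spinor.finrank_split hQ
  have heq : LinearMap.BilinForm.orthogonal (QuadraticMap.polarBilin Q) M = N :=
    (Submodule.eq_of_le_of_finrank_eq hle (by omega)).symm
  refine ⟨?_, heq⟩
  intro w hw hw0
  have key : ∃ x ∈ M, QuadraticMap.polar (⇑Q) w x ≠ 0 := by
    by_contra hc
    push Not at hc
    have hwN : w ∈ N := by
      rw [← heq]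
      intro x hx
      show QuadraticMap.polar Q x w = 0
      rw [QuadraticMap.polar_comm]; exact hc x hx
    obtain ⟨v, rfl⟩ := hw
    set u := (en g - 1) v with hu
    have hgu : g u = u := sub_eq_zero.1 hwN
    have hgv : g v = v + u := by
      show g v = v + (g v - v)
      abel
    have hj : ∀ j : ℕ, (en g ^ j) v = v + (j : F) • u := by
      intro j
      induction j with
      | zero => simp
      | succ j ih =>
        rw [pow_succ', Module.End.mul_apply, ih, map_add, map_smul]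
        show g v + (j : F) • g u = _
        rw [hgu, hgv]
        push_cast
        rw [add_smul, one_smul, add_assoc, add_comm u]
    have := hj r
    rw [hgr, Module.End.one_apply, eq_comm, add_eq_left, smul_eq_zero] at this
    exact hw0 (this.resolve_left hr0)
  obtain ⟨x, hx, hne⟩ := key
  exact ⟨⟨x, hx, by rwa [QuadraticMap.polar_comm]⟩, x, hx, hne⟩

end Space

section Odd

variable {F : Type*} [Field F] [Fintype F] {r i t q : ℕ} (S : Factors F r i t)

theorem Factors.real_zero {V : Type*} [AddCommGroup V] [Module F V] [FiniteDimensional F V]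
    (Q : QuadraticForm F V) : S.Real Q 0 := by
  refine ⟨LinearEquiv.refl F V, fun v => rfl, one_pow r, ?_⟩
  show LinearMap.charpoly (1 : Module.End F V) = _
  rw [LinearMap.charpoly_one]
  simp [S2568.polyOf]

/-- An element with compatible tuples fixes a subspace of the corresponding kind. -/
theorem Factors.fix_of_models (hr : r.Prime) (hr2 : r ≠ 2) (hr0 : (r : F) ≠ 0) (h2 : (2 : F) ≠ 0)
    {d h : ℕ} (hhd : h ≤ d) {g : (Unit ⊕ PI d → F) ≃ₗ[F] (Unit ⊕ PI d → F)}
    (hg : ∀ v, FormsLib.qOdd d F (g v) = FormsLib.qOdd d F v) (hgr : en g ^ r = 1) {a b : S.T → ℕ}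
    (hc : (en g).charpoly = S2568.polyOf S.T i (Module.finrank F (Unit ⊕ PI d → F)) a)
    (hba : ∀ y, b y ≤ a y) {pl : Prop} {κ : Type} [Fintype κ] (Qk : QuadraticForm F (κ → F))
    (hQk : (QuadraticMap.polarBilin Qk).Nondegenerate) (hκ : Module.finrank F (κ → F) = 2 * h)
    (hpl : HasHalf (F := F) ⇑Qk h ↔ pl) (hb : S.Real Qk b)
    (hrest : S.Real (FormsLib.qOdd (d - h) F) fun y => a y - b y) :
    ∃ W, Kind ⇑(FormsLib.qOdd d F) h pl W ∧ ∀ w ∈ W, g w ∈ W := by
  classical
  set Q := FormsLib.qOdd d F with hQdef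
  have hQ : (QuadraticMap.polarBilin Q).Nondegenerate := FormsLib.qOdd_nondeg h2
  set Q₀ := FormsLib.qOdd (d - h) F with hQ₀def
  obtain ⟨g₁, hg₁, hr₁, hc₁⟩ := hb
  obtain ⟨g₀, hg₀, hr₀, hc₀⟩ := hrest
  have hn₀ : Module.finrank F (Unit ⊕ PI (d - h) → F) = 2 * (d - h) + 1 := by simp; omega
  have hn : Module.finrank F (Unit ⊕ PI d → F) = 2 * d + 1 := by simp; omega
  obtain ⟨c, L, hc', hL⟩ := exists_similar_odd h2 (m := d) (V := (κ → F) × (Unit ⊕ PI (d - h) → F))
    (by rw [Module.finrank_prod, hκ, hn₀]; omega) (Qk.prod Q₀)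
    (prod_nondeg hQk (FormsLib.qOdd_nondeg h2))
  have hLQ : ∀ v, Q (L v) = c * (Qk v.1 + Q₀ v.2) := fun v => by
    rw [hQdef, show ⇑(FormsLib.qOdd d F) = Cfsg.quadFormOdd d F from FormsLib.coe_qOdd, hL]
    rfl
  let g' : (Unit ⊕ PI d → F) ≃ₗ[F] (Unit ⊕ PI d → F) := (L.symm.trans (g₁.prodCongr g₀)).trans L
  have he : en g' = L.conjAlgEquiv F ((en g₁).prodMap (en g₀)) := LinearMap.ext fun v => rfl
  have hg' : ∀ v, Q (g' v) = Q v := fun v => by
    conv_rhs => rw [← L.apply_symm_apply v, hLQ]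
    show Q (L ((g₁.prodCongr g₀) (L.symm v))) = _
    rw [hLQ]
    show c * (Qk (g₁ (L.symm v).1) + Q₀ (g₀ (L.symm v).2)) = _
    rw [hg₁, hg₀]
  have hgr' : en g' ^ r = 1 := by
    rw [he, ← map_pow]
    show L.conjAlgEquiv F ((LinearMap.prodMapRingHom F _ _ (en g₁, en g₀)) ^ r) = 1
    rw [← map_pow, Prod.pow_mk, hr₁, hr₀]
    exact map_one _
  have hb1 := S.bound_of_real hr (V := κ → F) ⟨g₁, hg₁, hr₁, hc₁⟩
  have hb0 := S.bound_of_real hr (V := Unit ⊕ PI (d - h) → F) ⟨g₀, hg₀, hr₀, hc₀⟩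
  have hcp : (en g').charpoly = (en g).charpoly := by
    have hab : ∀ y, a y = b y + (a y - b y) := fun y => by have := hba y; omega
    rw [hc, he]
    show (L.conj ((en g₁).prodMap (en g₀))).charpoly = _
    rw [L.charpoly_conj, LinearMap.charpoly_prodMap, hc₁, hc₀, S2568.polyOf, S2568.polyOf, S2568.polyOf,
      show ∑ y, a y = ∑ y, b y + ∑ y, (a y - b y) by
        rw [← Finset.sum_add_distrib]; exact Finset.sum_congr rfl fun y _ => hab y,
      Nat.mul_add,
      show Module.finrank F (Unit ⊕ PI d → F) - (i * ∑ y, b y + i * ∑ y, (a y - b y)) =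
        (Module.finrank F (κ → F) - i * ∑ y, b y) +
          (Module.finrank F (Unit ⊕ PI (d - h) → F) - i * ∑ y, (a y - b y)) by omega,
      pow_add, ← mul_mul_mul_comm, ← Finset.prod_mul_distrib]
    congr 1
    refine Finset.prod_congr rfl fun y _ => ?_
    rw [← pow_add, ← hab]
  obtain ⟨P, hP⟩ := FormCentral.exists_intertwine_of_charpoly (en g') (en g)
    (FormCentral.isSemisimple_of_pow hr0 hgr') (FormCentral.isSemisimple_of_pow hr0 hgr) hcp
  obtain ⟨w, hw, hwg⟩ := FormCentral.exists_orth_intertwine hQ (en g') (en g) hg' hg P hP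
    (hr.odd_of_ne_two hr2) hr0 hgr'
  let f : (κ → F) →ₗ[F] (Unit ⊕ PI d → F) :=
    (w.toLinearMap.comp L.toLinearMap).comp (LinearMap.inl F (κ → F) (Unit ⊕ PI (d - h) → F))
  have hf : Function.Injective f := fun x y e =>
    congrArg Prod.fst (L.injective (w.injective e))
  have hfQ : ∀ x, Q (f x) = c * Qk x := fun x => by
    show Q (w (L (x, 0))) = _
    rw [hw, hLQ]
    simp
  refine ⟨LinearMap.range f, ⟨?_, ?_, ?_⟩, ?_⟩
  · rw [LinearMap.finrank_range_of_inj hf, hκ]
  · rintro _ ⟨x, rfl⟩ h0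
    obtain ⟨y, hy⟩ : ∃ y, QuadraticMap.polar (⇑Qk) x y ≠ 0 := by
      by_contra hc
      push Not at hc
      exact h0 (by rw [hQk.1 x hc, map_zero])
    have e : QuadraticMap.polar (⇑Q) (f x) (f y) = c * QuadraticMap.polar (⇑Qk) x y := by
      rw [← polar_comp' Q f x y]
      simp only [QuadraticMap.polar, QuadraticMap.comp_apply, hfQ]
      ring
    have hne : QuadraticMap.polar (⇑Q) (f x) (f y) ≠ 0 := by rw [e]; exact mul_ne_zero hc' hy
    exact ⟨⟨f y, ⟨y, rfl⟩, by rwa [QuadraticMap.polar_comm]⟩, f y, ⟨y, rfl⟩, hne⟩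
  · rw [plus_on_iff (Q := Q) (by rw [LinearMap.finrank_range_of_inj hf, hκ]), ← hpl,
      ← half_scale (f := ⇑Qk) hc' h]
    exact ⟨fun hh => hasHalf_map (LinearEquiv.ofInjective f hf).symm (fun v => by
        obtain ⟨x, rfl⟩ := (LinearEquiv.ofInjective f hf).surjective v
        rw [LinearEquiv.symm_apply_apply]
        exact (hfQ x).symm) hh,
      fun hh => hasHalf_map (LinearEquiv.ofInjective f hf) (fun x => hfQ x) hh⟩
  · rintro _ ⟨x, rfl⟩
    refine ⟨g₁ x, ?_⟩
    have := hwg (L (x, 0))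
    show w (L (g₁ x, 0)) = g (w (L (x, 0)))
    rw [show g (w (L (x, 0))) = en g (w (L (x, 0))) from rfl, ← this]
    congr 1
    show L (g₁ x, 0) = L ((g₁.prodCongr g₀) (L.symm (L (x, 0))))
    rw [L.symm_apply_apply]
    simp

variable {p : ℕ} [Fact p.Prime] [CharP F p]

theorem Factors.fix_iff (hF : Fintype.card F = q) (hr : r.Prime) (hr2 : r ≠ 2) (hr0 : (r : F) ≠ 0)
    (h2 : (2 : F) ≠ 0) (hi : i = orderOf (q : ZMod r)) (h0 : 0 < i) (hq0 : (q : ZMod r) ≠ 0)
    {d h : ℕ} (hh : 1 ≤ h) (hhd : h ≤ d) {pl : Prop} {g : (Unit ⊕ PI d → F) ≃ₗ[F] (Unit ⊕ PI d → F)}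
    (hg : ∀ v, FormsLib.qOdd d F (g v) = FormsLib.qOdd d F v) (hgr : en g ^ r = 1) {a : S.T → ℕ}
    (hc : (en g).charpoly = S2568.polyOf S.T i (Module.finrank F (Unit ⊕ PI d → F)) a) :
    (∃ W, Kind ⇑(FormsLib.qOdd d F) h pl W ∧ ∀ w ∈ W, g w ∈ W) ↔
      ∃ b : S.T → ℕ, (∀ y, b y ≤ a y) ∧ (∀ y, b (S.star hr hr0 y) = b y) ∧ i * ∑ y, b y ≤ 2 * h ∧
        i * ∑ y, a y + 2 * h ≤ 2 * d + 1 + i * ∑ y, b y ∧
        (i * ∑ y, b y = 2 * h → (pl ↔ (Odd i ∨ Even (∑ y, b y)))) := by
  classical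
  have hQ : (QuadraticMap.polarBilin (FormsLib.qOdd d F)).Nondegenerate := FormsLib.qOdd_nondeg h2
  have hn : Module.finrank F (Unit ⊕ PI d → F) = 2 * d + 1 := by simp; omega
  constructor
  · rintro ⟨W, ⟨hd', hnd, hpl⟩, hinv⟩
    obtain ⟨b, gW, hgW, hgWr, hbc, hbs, hba, hb1, hb2⟩ := S.split hr hr0 hQ hg hgr hc hnd hinv
    rw [hn] at hb2
    refine ⟨b, hba, hbs, by omega, by omega, fun hfull => ?_⟩
    rw [← hpl, plus_on_iff hd']
    exact S.half_iff hF hr hr2 hr0 hi h0 hq0 hh hd' ((nondeg_on_iff W).1 hnd)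
      (g := gW) (fun w => show FormsLib.qOdd d F (gW w : _) = _ by rw [hgW, hg]; rfl) hgWr hbc hfull
  · rintro ⟨b, hba, hbs, hb1, hb2, hfull⟩
    have has : ∀ y, a (S.star hr hr0 y) = a y := S.sym_of_real hr hr0 hQ ⟨g, hg, hgr, hc⟩
    have hrest : S.Real (FormsLib.qOdd (d - h) F) fun y => a y - b y := by
      by_cases hz : (fun y => a y - b y) = 0
      · rw [hz]; exact S.real_zero _
      · refine (S.real_odd_iff hF hr hr2 hr0 hi h0 h2 hz).2 ⟨fun y => by simp only [has, hbs], ?_⟩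
        have e : ∑ y, a y = ∑ y, b y + ∑ y, (a y - b y) := by
          rw [← Finset.sum_add_distrib]
          exact Finset.sum_congr rfl fun y _ => by have := hba y; omega
        rw [e, Nat.mul_add] at hb2
        omega
    have hne : b = 0 → i * ∑ y, b y ≠ 2 * h := fun hz => by
      rw [hz]; simp; omega
    by_cases hp : pl
    · have hb : S.Real (OrthOrder.qPlus h F) b := by
        by_cases hz : b = 0
        · rw [hz]; exact S.real_zero _
        · exact (S.real_plus_iff hF hr hr2 hr0 hi h0 hq0 hh hz).2 ⟨hbs, hb1, fun e => (hfull e).1 hp⟩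
      exact S.fix_of_models hr hr2 hr0 h2 hhd hg hgr hc hba (OrthOrder.qPlus h F)
        (OrthForms.qPlus_nondeg h) (by simp; omega)
        (iff_of_true (hasHalf_map (LinearEquiv.refl F _) (fun v => OrthOrder.qPlus_apply h v) (plus_half h)) hp)
        hb hrest
    · obtain ⟨c₁, c₂, hab⟩ := Spinor.exists_aniso F
      obtain ⟨Qm, hQm, hQmn⟩ := OrthForms.exists_qMinus (F := F) (h - 1) c₁ c₂ hab
      have hb : S.Real Qm b := by
        by_cases hz : b = 0
        · rw [hz]; exact S.real_zero _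
        · exact (S.real_minus_iff hF hr hr2 hr0 hi h0 hq0 hh hab hQm hQmn hz).2
            ⟨hbs, hb1, fun e he => hp ((hfull e).2 he)⟩
      exact S.fix_of_models hr hr2 hr0 h2 hhd hg hgr hc hba Qm hQmn (by simp; omega)
        (iff_of_false (fun hh' => minus_no_half (h - 1) c₁ c₂ hab (by
          rw [hQm] at hh'
          rwa [Nat.sub_add_cancel hh])) hp) hb hrest

/-- Symmetric tuples come in units. -/
theorem Factors.units (hr : r.Prime) (hr2 : r ≠ 2) (hr0 : (r : F) ≠ 0) {c : ℕ}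
    (hc : c = if Even i then i else 2 * i) (a : S.T → ℕ) (ha : ∀ y, a (S.star hr hr0 y) = a y) :
    ∃ u, i * ∑ y, a y = c * u ∧ ((Odd i ∨ Even (∑ y, a y)) ↔ (Odd i ∨ Even u)) := by
  classical
  rcases Nat.even_or_odd i with he | ho
  · exact ⟨∑ y, a y, by rw [hc, if_pos he], Iff.rfl⟩
  · obtain ⟨H, hH⟩ := exists_half (S.star hr hr0) (S.star_star hr hr0)
      (fun y h => S.dual_ne_self hr hr2 ho y.2 (congrArg Subtype.val h))
    refine ⟨∑ x : {x // H x}, a x, ?_, iff_of_true (Or.inl ho) (Or.inl ho)⟩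
    rw [hc, if_neg (Nat.not_even_iff_odd.2 ho), sum_double (S.star hr hr0) hH a ha]
    ring

theorem Factors.exists_sub (hF : Fintype.card F = q) (hr : r.Prime) (hr2 : r ≠ 2) (hr0 : (r : F) ≠ 0)
    (hi : i = orderOf (q : ZMod r)) (h0 : 0 < i) {c : ℕ}
    (hc : c = if Even i then i else 2 * i) {a : S.T → ℕ} (ha : ∀ y, a (S.star hr hr0 y) = a y) {u v : ℕ}
    (hau : i * ∑ y, a y = c * u) (hv : v ≤ u) :
    ∃ b : S.T → ℕ, (∀ y, b y ≤ a y) ∧ (∀ y, b (S.star hr hr0 y) = b y) ∧ i * ∑ y, b y = c * v ∧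
      ((Odd i ∨ Even (∑ y, b y)) ↔ (Odd i ∨ Even v)) := by
  classical
  rcases Nat.even_or_odd i with he | ho
  · rw [hc, if_pos he] at hau ⊢
    obtain ⟨b, hb, hs⟩ := exists_le_sum Finset.univ a v (by
      rw [Nat.eq_of_mul_eq_mul_left h0 hau]; exact hv)
    exact ⟨b, hb, S.sym_of_even hF hr hr0 hi he h0 b, by rw [hs], by rw [hs]⟩
  · obtain ⟨H, hH⟩ := exists_half (S.star hr hr0) (S.star_star hr hr0)
      (fun y h => S.dual_ne_self hr hr2 ho y.2 (congrArg Subtype.val h))
    rw [hc, if_neg (Nat.not_even_iff_odd.2 ho)] at hau ⊢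
    rw [sum_double (S.star hr hr0) hH a ha, show 2 * i * u = i * (2 * u) by ring] at hau
    have hu := Nat.eq_of_mul_eq_mul_left h0 hau
    obtain ⟨b', hb', hs⟩ := exists_le_sum Finset.univ (fun x : {x // H x} => a x) v (by omega)
    let b : S.T → ℕ := fun x => if hx : H x then b' ⟨x, hx⟩ else b' ⟨S.star hr hr0 x, (hH x).2 hx⟩
    have hbs : ∀ x, b (S.star hr hr0 x) = b x := by
      intro x
      simp only [b]
      by_cases hx : H x
      · rw [dif_pos hx, dif_neg (fun h' => (hH x).1 h' hx)]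
        congr 1
        exact Subtype.ext (S.star_star hr hr0 x)
      · rw [dif_neg hx, dif_pos ((hH x).2 hx)]
    refine ⟨b, fun x => ?_, hbs, ?_, iff_of_true (Or.inl ho) (Or.inl ho)⟩
    · simp only [b]
      by_cases hx : H x
      · rw [dif_pos hx]; exact hb' _
      · rw [dif_neg hx, ← ha x]; exact hb' _
    · rw [sum_double (S.star hr hr0) hH b hbs,
        show ∑ x : {x // H x}, b x = v by
          rw [← hs]; exact Finset.sum_congr rfl fun x _ => by simp [b, x.2]]
      ring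

theorem Factors.tuple_of_units (hF : Fintype.card F = q) (hr : r.Prime) (hr2 : r ≠ 2) (hr0 : (r : F) ≠ 0)
    (hi : i = orderOf (q : ZMod r)) (h0 : 0 < i) (ht : t * i = r - 1) {c : ℕ}
    (hc : c = if Even i then i else 2 * i) (u : ℕ) :
    ∃ a : S.T → ℕ, (∀ y, a (S.star hr hr0 y) = a y) ∧ i * ∑ y, a y = c * u := by
  classical
  obtain ⟨y0⟩ : Nonempty S.T := Fintype.card_pos_iff.1 (by
    rw [Fintype.card_coe, S.card]; exact OrthClasses.Factors.one_le_t hr ht)
  rcases Nat.even_or_odd i with he | ho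
  · exact ⟨Pi.single y0 u, S.sym_of_even hF hr hr0 hi he h0 _, by simp [hc, if_pos he]⟩
  · refine ⟨Pi.single y0 u + Pi.single (S.star hr hr0 y0) u, fun y => ?_, ?_⟩
    · have hinv : ∀ z, S.star hr hr0 y = z ↔ y = S.star hr hr0 z := fun z =>
        ⟨fun e => by rw [← e, S.star_star], fun e => by rw [e, S.star_star]⟩
      simp only [Pi.add_apply, Pi.single_apply, hinv, S.star_star]
      exact add_comm _ _
    · rw [hc, if_neg (Nat.not_even_iff_odd.2 ho)]
      simp [Finset.sum_add_distrib]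
      ring

theorem Factors.exists_real (hF : Fintype.card F = q) (hr : r.Prime) (hr2 : r ≠ 2) (hr0 : (r : F) ≠ 0)
    (h2 : (2 : F) ≠ 0) (hi : i = orderOf (q : ZMod r)) (h0 : 0 < i) {d : ℕ} {a : S.T → ℕ}
    (ha : ∀ y, a (S.star hr hr0 y) = a y) (hle : i * ∑ y, a y ≤ 2 * d + 1) :
    S.Real (FormsLib.qOdd d F) a := by
  by_cases hz : a = 0
  · rw [hz]; exact S.real_zero _
  · exact (S.real_odd_iff hF hr hr2 hr0 hi h0 h2 hz).2 ⟨ha, hle⟩

include S in
/-- For small subspaces the number of subspaces of a kind is prime to `r`. -/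
theorem Factors.not_dvd_card (hF : Fintype.card F = q) (hr : r.Prime) (hr2 : r ≠ 2) (hr0 : (r : F) ≠ 0)
    (h2 : (2 : F) ≠ 0) (hi : i = orderOf (q : ZMod r)) (h0 : 0 < i) (hq0 : (q : ZMod r) ≠ 0)
    (ht : t * i = r - 1) {c : ℕ} (hc : c = if Even i then i else 2 * i)
    {d h : ℕ} (hh : 1 ≤ h) (hhd : h ≤ d) {pl : Prop} (hch : 2 * h < c) (hk : 2 * h < (2 * d + 1) % c) :
    ¬ r ∣ Nat.card {W // Kind ⇑(FormsLib.qOdd d F) h pl W} := by
  classical
  have := Fact.mk hr
  set Q := FormsLib.qOdd d F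
  have hQ : (QuadraticMap.polarBilin Q).Nondegenerate := FormsLib.qOdd_nondeg h2
  have hn : Module.finrank F (Unit ⊕ PI d → F) = 2 * d + 1 := by simp; omega
  have hc0 : 0 < c := by omega
  have hdiv := Nat.mod_add_div (2 * d + 1) c
  have hmod := Nat.mod_lt (2 * d + 1) hc0
  obtain ⟨a, ha, hau⟩ := S.tuple_of_units hF hr hr2 hr0 hi h0 ht hc ((2 * d + 1) / c)
  obtain ⟨g, hg, hgr, hgc⟩ := S.exists_real hF hr hr2 hr0 h2 hi h0 (d := d) ha (by omega)
  obtain ⟨hM, hMorth⟩ := moved_facts hr0 hQ hg hgr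
  set M := LinearMap.range (en g - 1)
  have hMg : ∀ x ∈ M, g x ∈ M := by
    rintro _ ⟨v, rfl⟩
    exact ⟨g v, by simp [map_sub]⟩
  have hfixN : ∀ (W : Submodule F (Unit ⊕ PI d → F)), Kind ⇑Q h pl W → (∀ w ∈ W, g w ∈ W) →
      ∀ w ∈ W, g w = w := by
    intro W hW hinv w hw
    obtain ⟨b, gW, hgW, hgWr, hbc, hbs, -, hb1, -⟩ := S.split hr hr0 hQ hg hgr hgc hW.2.1 hinv
    obtain ⟨v, hv, -⟩ := S.units hr hr2 hr0 hc b hbs
    have hv0 : v = 0 := by
      by_contra hne
      have := Nat.le_mul_of_pos_right c (Nat.pos_of_ne_zero hne)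
      rw [hW.1] at hb1
      omega
    have hb0 : b = 0 := by
      funext y
      rw [hv0, mul_zero, Nat.mul_eq_zero] at hv
      exact (Finset.sum_eq_zero_iff.1 (hv.resolve_left h0.ne')) y (Finset.mem_univ y)
    rw [hb0] at hbc
    rw [← hgW ⟨w, hw⟩, S.eq_one_of_zero hr0 hgWr hbc]
  have hMdim : c * ((2 * d + 1) / c) ≤ Module.finrank F M := by
    set N := LinearMap.BilinForm.orthogonal (QuadraticMap.polarBilin Q) M
    have hNnd : Cfsg.Geo.IsNondegenerateOn (QuadraticMap.polar ⇑Q) N := by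
      have hcm := isCompl_orth hQ hM
      intro w hw hw0
      have key : ∃ x ∈ N, QuadraticMap.polar (⇑Q) w x ≠ 0 := by
        by_contra hcon
        push Not at hcon
        refine hw0 (hQ.1 w fun v => ?_)
        obtain ⟨x, hx, y, hy, rfl⟩ := Submodule.mem_sup.1
          (show v ∈ M ⊔ N by rw [hcm.sup_eq_top]; trivial)
        show QuadraticMap.polar Q w (x + y) = 0
        rw [QuadraticMap.polar_add_right, hcon y hy, add_zero, QuadraticMap.polar_comm]
        exact hw x hx
      obtain ⟨x, hx, hne⟩ := key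
      exact ⟨⟨x, hx, by rwa [QuadraticMap.polar_comm]⟩, x, hx, hne⟩
    have hNfix : ∀ w ∈ N, g w = w := fun w hw => by
      rw [hMorth] at hw; exact sub_eq_zero.1 hw
    obtain ⟨b, gN, hgN, hgNr, hbc, -, -, -, hb2⟩ := S.split hr hr0 hQ hg hgr hgc hNnd
      (fun w hw => by rw [hNfix w hw]; exact hw)
    have hb0 : b = 0 := by
      refine S.tuple_inj (n := Module.finrank F N) (hbc.symm.trans ?_)
      rw [show en gN = 1 from LinearMap.ext fun w => Subtype.ext (by
        exact (hgN w).trans (hNfix _ w.2)), LinearMap.charpoly_one]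
      simp [S2568.polyOf]
    have := Spinor.finrank_split hQ (W := M)
    rw [hb0] at hb2
    simp only [Pi.zero_apply, Finset.sum_const_zero, mul_zero, add_zero, hau, hn] at hb2
    change Module.finrank F M + Module.finrank F N = _ at this
    rw [hn] at this
    omega
  -- the group fixing the moved part pointwise
  let K : Subgroup ((Unit ⊕ PI d → F) ≃ₗ[F] (Unit ⊕ PI d → F)) :=
    { carrier := {k | (∀ v, Q (k v) = Q v) ∧ ∀ x ∈ M, k x = x}
      one_mem' := ⟨fun v => rfl, fun x _ => rfl⟩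
      mul_mem' := fun {k l} hk hl => ⟨fun v => (hk.1 (l v)).trans (hl.1 v), fun x hx => by
        show k (l x) = x
        rw [hl.2 x hx, hk.2 x hx]⟩
      inv_mem' := fun {k} hk => ⟨fun v => by
          show Q (k.symm v) = Q v
          conv_rhs => rw [← k.apply_symm_apply v, hk.1],
        fun x hx => by
          show k.symm x = x
          conv_lhs => rw [← hk.2 x hx]
          exact k.symm_apply_apply x⟩ }
  haveI : Finite ((Unit ⊕ PI d → F) ≃ₗ[F] (Unit ⊕ PI d → F)) :=
    Finite.of_injective (fun k => ⇑k) DFunLike.coe_injective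
  have hKr : ¬ r ∣ Nat.card K := by
    intro hdvd
    obtain ⟨k, hk⟩ := exists_prime_orderOf_dvd_card' r hdvd
    have hkr : en k.1 ^ r = 1 := by
      have h := congrArg (fun z : K => z.1) (show k ^ r = 1 by rw [← hk, pow_orderOf_eq_one])
      simp only [SubmonoidClass.coe_pow, OneMemClass.coe_one] at h
      exact (map_pow (LinearEquiv.automorphismGroup.toLinearMapMonoidHom (R := F)
        (M := Unit ⊕ PI d → F)) k.1 r).symm.trans (congrArg _ h)
    obtain ⟨a', -, hac⟩ := S.exists_tuple hr hkr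
    obtain ⟨u', hu', -⟩ := S.units hr hr2 hr0 hc a' (S.sym_of_real hr hr0 hQ ⟨k.1, k.2.1, hkr, hac⟩)
    obtain ⟨b, kM, hkM, hkMr, hbc, -, -, -, hb2⟩ := S.split hr hr0 hQ k.2.1 hkr hac hM
      (fun x hx => by rw [k.2.2 x hx]; exact hx)
    have hb0 : b = 0 := by
      refine S.tuple_inj (n := Module.finrank F M) (hbc.symm.trans ?_)
      rw [show en kM = 1 from LinearMap.ext fun w => Subtype.ext (by
        exact (hkM w).trans (k.2.2 _ w.2)), LinearMap.charpoly_one]
      simp [S2568.polyOf]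
    rw [hb0] at hb2
    simp only [Pi.zero_apply, Finset.sum_const_zero, mul_zero, add_zero, hu', hn] at hb2
    have hu0 : u' = 0 := by
      by_contra hne
      have := Nat.le_mul_of_pos_right c (Nat.pos_of_ne_zero hne)
      omega
    have ha0 : a' = 0 := by
      funext y
      rw [hu0, mul_zero, Nat.mul_eq_zero] at hu'
      exact (Finset.sum_eq_zero_iff.1 (hu'.resolve_left h0.ne')) y (Finset.mem_univ y)
    rw [ha0] at hac
    have : k = 1 := Subtype.ext (LinearEquiv.ext fun v => S.eq_one_of_zero hr0 hkr hac v)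
    rw [this, orderOf_one] at hk
    exact hr.one_lt.ne hk
  -- the permutation induced by `g`
  let Ω := {W // Kind ⇑Q h pl W}
  haveI : Finite (Submodule F (Unit ⊕ PI d → F)) :=
    Finite.of_injective (fun W => (W : Set (Unit ⊕ PI d → F))) SetLike.coe_injective
  have hmap : ∀ k : (Unit ⊕ PI d → F) ≃ₗ[F] (Unit ⊕ PI d → F), (∀ v, Q (k v) = Q v) →
      ∀ W, Kind ⇑Q h pl W → Kind ⇑Q h pl (W.map k.toLinearMap) := by
    intro k hk W ⟨h1, h2', h3⟩
    have hd' : Module.finrank F (W.map k.toLinearMap) = 2 * h := by rw [LinearEquiv.finrank_map_eq, h1]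
    refine ⟨hd', ?_, ?_⟩
    · rintro _ ⟨w, hw, rfl⟩ hw0
      obtain ⟨⟨x, hx, hxw⟩, y, hy, hwy⟩ := h2' w hw (fun e => hw0 (by rw [e, map_zero]))
      exact ⟨⟨k x, ⟨x, hx, rfl⟩, by
          rwa [LinearEquiv.coe_coe, FormsLib.polar_of_mem (g := k) hk]⟩,
        k y, ⟨y, hy, rfl⟩, by rwa [LinearEquiv.coe_coe, FormsLib.polar_of_mem (g := k) hk]⟩
    · rw [← h3, plus_on_iff h1, plus_on_iff hd']
      exact ⟨fun hh => hasHalf_map (k.submoduleMap W).symm (fun v => by
          obtain ⟨x, rfl⟩ := (k.submoduleMap W).surjective v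
          rw [LinearEquiv.symm_apply_apply]
          exact (hk x).symm) hh,
        fun hh => hasHalf_map (k.submoduleMap W) (fun x => hk x) hh⟩
  haveI : Fintype Ω := Fintype.ofFinite _
  let f : Function.End Ω := fun W => ⟨W.1.map g.toLinearMap, hmap g hg W.1 W.2⟩
  have hfr : f ^ r ^ 1 = 1 := by
    rw [pow_one]
    have hj : ∀ (j : ℕ) (W : Ω), ((f ^ j) W).1 = W.1.map (en g ^ j) := by
      intro j
      induction j with
      | zero => intro W; exact (Submodule.map_id _).symm
      | succ j ih =>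
        intro W
        rw [pow_succ', pow_succ', Module.End.mul_eq_comp, Submodule.map_comp, ← ih]
        rfl
    funext W
    refine Subtype.ext ((hj r W).trans ?_)
    rw [hgr]
    exact Submodule.map_id _
  have hmodeq := Equiv.Perm.card_fixedPoints_modEq hfr
  intro hdvd
  rw [← Nat.card_eq_fintype_card, ← Nat.card_eq_fintype_card] at hmodeq
  have hfixcard : r ∣ Nat.card (Function.fixedPoints f) := (Nat.ModEq.dvd_iff hmodeq dvd_rfl).1 hdvd
  -- transitivity
  letI : MulAction K Ω :=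
    { smul := fun k W => ⟨W.1.map k.1.toLinearMap, hmap k.1 k.2.1 W.1 W.2⟩
      one_smul := fun W => Subtype.ext (Submodule.map_id _)
      mul_smul := fun k l W => Subtype.ext (by
        show W.1.map (k.1 * l.1).toLinearMap =
          (W.1.map l.1.toLinearMap).map k.1.toLinearMap
        rw [← Submodule.map_comp]; rfl) }
  have hfix_iff : ∀ W : Ω, f W = W ↔ ∀ w ∈ W.1, g w = w := by
    intro W
    constructor
    · intro e
      refine hfixN W.1 W.2 fun w hw => ?_
      have e' : W.1.map g.toLinearMap = W.1 := congrArg Subtype.val e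
      rw [← e']
      exact ⟨w, hw, rfl⟩
    · intro e
      refine Subtype.ext (le_antisymm ?_ fun w hw => ⟨w, hw, e w hw⟩)
      rintro _ ⟨w, hw, rfl⟩
      show g w ∈ W.1
      rw [e w hw]; exact hw
  obtain ⟨W₁, hW₁, hW₁inv⟩ := (S.fix_iff hF hr hr2 hr0 h2 hi h0 hq0 hh hhd (pl := pl) hg hgr hgc).2
    ⟨0, fun y => Nat.zero_le _, fun y => rfl, by simp, by simp only [Pi.zero_apply, Finset.sum_const_zero, mul_zero]; omega, by simp only [Pi.zero_apply, Finset.sum_const_zero, mul_zero]; omega⟩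
  let W₀ : Ω := ⟨W₁, hW₁⟩
  have hW₀ : ∀ w ∈ W₀.1, g w = w := hfixN W₁ hW₁ hW₁inv
  have hperp : ∀ W : Ω, (∀ w ∈ W.1, g w = w) →
      W.1 ≤ LinearMap.BilinForm.orthogonal (QuadraticMap.polarBilin Q) M := fun W e w hw => by
    rw [hMorth]
    exact sub_eq_zero.2 (e w hw)
  have horb : Function.fixedPoints f = MulAction.orbit K W₀ := by
    ext W
    show f W = W ↔ W ∈ MulAction.orbit K W₀
    rw [hfix_iff]
    constructor
    · intro e
      obtain ⟨φ, hφ⟩ : ∃ φ : W₀.1 ≃ₗ[F] W.1, ∀ x : W₀.1, Q (φ x : _) = Q (x : _) := by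
        obtain ⟨c₁, c₂, hab⟩ := Spinor.exists_aniso F
        have hhalf : ∀ W : Ω, HasHalf (F := F) ⇑(Q.comp W.1.subtype) h ↔ pl := fun W => by
          rw [← plus_on_iff W.2.1]; exact W.2.2.2
        have hminus : ∀ (W : Ω) (L : W.1 ≃ₗ[F] (MI (h - 1) → F)),
            (∀ v, Cfsg.quadFormMinus (h - 1) F c₁ c₂ (L v) = Q.comp W.1.subtype v) → ¬ pl :=
          fun W L hL hp => minus_no_half (h - 1) c₁ c₂ hab (by
            rw [Nat.sub_add_cancel hh]; exact hasHalf_map L hL ((hhalf W).2 hp))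
        have hplus : ∀ (W : Ω) (L : W.1 ≃ₗ[F] (PI h → F)),
            (∀ v, Cfsg.quadFormPlus h F (L v) = Q.comp W.1.subtype v) → pl :=
          fun W L hL => (hhalf W).1 (hasHalf_map L.symm (fun v => by rw [← hL, L.apply_symm_apply]) (plus_half h))
        rcases Spinor.equiv_plus_or_minus hh W₀.2.1 _ ((nondeg_on_iff _).1 W₀.2.2.1) c₁ c₂ hab
          with ⟨L₀, h₀⟩ | ⟨L₀, h₀⟩ <;>
        rcases Spinor.equiv_plus_or_minus hh W.2.1 _ ((nondeg_on_iff _).1 W.2.2.1) c₁ c₂ hab
          with ⟨L, hL⟩ | ⟨L, hL⟩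
        · exact ⟨L₀.trans L.symm, fun x => by
            have := (hL (L.symm (L₀ x))).symm.trans ((congrArg _ (L.apply_symm_apply _)).trans (h₀ x))
            simpa using this⟩
        · exact absurd (hplus W₀ L₀ h₀) (hminus W L hL)
        · exact absurd (hplus W L hL) (hminus W₀ L₀ h₀)
        · exact ⟨L₀.trans L.symm, fun x => by
            have := (hL (L.symm (L₀ x))).symm.trans ((congrArg _ (L.apply_symm_apply _)).trans (h₀ x))
            simpa using this⟩
      -- extend by the identity on the moved part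
      have hdis : ∀ V : Ω, (∀ w ∈ V.1, g w = w) → ∀ x ∈ M, ∀ y ∈ V.1, x + y = 0 → x = 0 ∧ y = 0 := by
        intro V eV x hx y hy hxy
        have hxo : x ∈ LinearMap.BilinForm.orthogonal (QuadraticMap.polarBilin Q) M := by
          rw [eq_neg_of_add_eq_zero_left hxy]
          exact Submodule.neg_mem _ (hperp V eV hy)
        have hx0 : x = 0 := (Submodule.eq_bot_iff _).1 (isCompl_orth hQ hM).inf_eq_bot x ⟨hx, hxo⟩
        exact ⟨hx0, by simpa [hx0] using hxy⟩
      have hQadd : ∀ V : Ω, (∀ w ∈ V.1, g w = w) → ∀ x ∈ M, ∀ y ∈ V.1, Q (x + y) = Q x + Q y := by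
        intro V eV x hx y hy
        rw [FormsLib.quad_add, show QuadraticMap.polar Q x y = 0 from hperp V eV hy x hx, add_zero]
      let A : (M × W₀.1) →ₗ[F] (Unit ⊕ PI d → F) := M.subtype.coprod W₀.1.subtype
      let B : (M × W₀.1) →ₗ[F] (Unit ⊕ PI d → F) := M.subtype.coprod (W.1.subtype.comp φ.toLinearMap)
      have hA : Function.Injective A := (injective_iff_map_eq_zero A).2 fun z hz => by
        obtain ⟨h1, h2'⟩ := hdis W₀ hW₀ _ z.1.2 _ z.2.2 hz
        exact Prod.ext (Subtype.ext h1) (Subtype.ext h2')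
      have hB : Function.Injective B := (injective_iff_map_eq_zero B).2 fun z hz => by
        obtain ⟨h1, h2'⟩ := hdis W e _ z.1.2 _ (φ z.2).2 hz
        exact Prod.ext (Subtype.ext h1) (φ.injective (by show φ z.2 = φ 0; rw [map_zero]; exact Subtype.ext h2'))
      let eA := LinearEquiv.ofInjective A hA
      obtain ⟨k, hk, hkx⟩ := FormsLib.quad_witt hQ (LinearMap.range A) (B.comp eA.symm.toLinearMap)
        (hB.comp eA.symm.injective) (fun z => by
          obtain ⟨⟨x, y⟩, rfl⟩ := eA.surjective z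
          show Q (B (eA.symm (eA (x, y)))) = Q (A (x, y))
          rw [eA.symm_apply_apply]
          show Q ((x : _) + (φ y : _)) = Q ((x : _) + (y : _))
          rw [hQadd W e _ x.2 _ (φ y).2, hQadd W₀ hW₀ _ x.2 _ y.2, hφ])
      have hkA : ∀ z, k (A z) = B z := fun z => by
        rw [show A z = (eA z).1 from rfl, hkx]
        show B (eA.symm (eA z)) = B z
        rw [eA.symm_apply_apply]
      refine ⟨⟨k, hk, fun x hx => ?_⟩, Subtype.ext (le_antisymm ?_ fun w hw => ?_)⟩
      · simpa [A, B] using hkA (⟨x, hx⟩, 0)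
      · rintro _ ⟨y, hy, rfl⟩
        have := hkA (0, ⟨y, hy⟩)
        simp [A, B] at this
        show k y ∈ W.1
        rw [this]; exact (φ _).2
      · refine ⟨φ.symm ⟨w, hw⟩, (φ.symm ⟨w, hw⟩).2, ?_⟩
        have := hkA (0, φ.symm ⟨w, hw⟩)
        simp [A, B] at this
        exact this
    · rintro ⟨k, rfl⟩ _ ⟨y, hy, rfl⟩
      -- `k` preserves the fixed space
      have hyo : y ∈ LinearMap.BilinForm.orthogonal (QuadraticMap.polarBilin Q) M := hperp W₀ hW₀ hy
      have hky : k.1 y ∈ LinearMap.BilinForm.orthogonal (QuadraticMap.polarBilin Q) M := fun x hx => by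
        show QuadraticMap.polar Q x (k.1 y) = 0
        rw [← k.2.2 x hx, FormsLib.polar_of_mem (g := k.1) k.2.1]
        exact hyo x hx
      rw [hMorth] at hky
      exact sub_eq_zero.1 hky
  rw [horb, Nat.card_coe_set_eq, ← MulAction.index_stabilizer (G := K)] at hfixcard
  · exact hKr (hfixcard.trans (Subgroup.index_dvd_card _))

end Odd

end Cfsg.Agent.OrthClasses
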