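import Cfsg.Agent.Lib.OrthClasses.ElusiveStatement
import Cfsg.Agent.Lib.OrthClasses.InvolutionKinds
import Mathlib

/-!
Elements of order `2` and of order `p` and invariant subspaces of a given kind.
-/

set_option autoImplicit false
set_option linter.unusedSectionVars false

namespace Cfsg.Agent.OrthClasses

open Cfsg.Agent.JordanOrth

variable {F : Type*} [Field F] [Fintype F] {p : ℕ} [Fact p.Prime] [CharP F p]

theorem two_ne_zero_of_odd_card (hodd : Odd (Fintype.card F)) : (2 : F) ≠ 0 := Ring.two_ne_zero fun h => by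
  have := FiniteField.even_card_iff_char_two.1 h
  rw [Nat.odd_iff] at hodd
  omega

theorem elusive_two (h2 : (2 : F) ≠ 0) {d h : ℕ} (hd : 3 ≤ d) (hh : 1 ≤ h) (hhd : h ≤ d) (pl : Prop)
    (x : GL (Unit ⊕ PI d) F) (hx : x ∈ Cfsg.Geo.omegaGL ⇑(FormsLib.qOdd d F)) (hxo : orderOf x = 2) :
    ∃ W, Kind ⇑(FormsLib.qOdd d F) h pl W ∧
      W.map (Matrix.toLin' (x : Matrix (Unit ⊕ PI d) (Unit ⊕ PI d) F)) ≤ W := by
  have SQ : QMax.QSetting (FormsLib.qOdd d F) :=
    ⟨FormsLib.qOdd_nondeg h2, by simp [Fintype.card_sum]; omega⟩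
  obtain ⟨W, hW, hWg⟩ := involution_kind h2 SQ.nondeg
    (g := Matrix.toLin' (x : Matrix (Unit ⊕ PI d) (Unit ⊕ PI d) F)) (fun v => by
      rw [Matrix.toLin'_apply, ← TransvMax.linOf_apply]
      exact QMax.omegaGL_iso SQ hx v)
    (fun v => by
      rw [Matrix.toLin'_apply, Matrix.toLin'_apply, Matrix.mulVec_mulVec, ← Units.val_mul, ← sq,
        ← hxo, pow_orderOf_eq_one, Units.val_one, Matrix.one_mulVec])
    hh (by simp [Fintype.card_sum]; omega) pl
  exact ⟨W, hW, by rintro _ ⟨w, hw, rfl⟩; exact hWg w hw⟩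

/-- Some element of order `p` leaves no subspace of minus type invariant. -/
theorem elusive_p_minus (h2 : (2 : F) ≠ 0) {d h : ℕ} (hd : 3 ≤ d) :
    ¬ ∀ x : GL (Unit ⊕ PI d) F, x ∈ Cfsg.Geo.omegaGL ⇑(FormsLib.qOdd d F) → orderOf x = p →
      ∃ W, Kind ⇑(FormsLib.qOdd d F) h False W ∧
        W.map (Matrix.toLin' (x : Matrix (Unit ⊕ PI d) (Unit ⊕ PI d) F)) ≤ W := by
  classical
  intro hall
  have hp : p.Prime := Fact.out
  have hp2 : p ≠ 2 := fun e => h2 (by subst e; exact_mod_cast CharP.cast_eq_zero F 2)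
  have hp3 : 3 ≤ p := by have := hp.two_le; omega
  set Q := FormsLib.qOdd d F
  have S : QMax.QSetting Q := ⟨FormsLib.qOdd_nondeg h2, by simp [Fintype.card_sum]; omega⟩
  let C : Submodule F (Unit ⊕ PI d → F) → Prop := Kind ⇑Q h False
  have hallP : AllFixP p ⇑Q C := fun x hx _ hxo _ => hall x hx hxo
  obtain ⟨μ, hμ, hev, hsum, hodd, h1, hcore⟩ : ∃ μ : Multiset ℕ, (∀ e ∈ μ, 0 < e ∧ e ≤ p) ∧
      (∀ e : ℕ, Even e → Even (μ.count e)) ∧ μ.sum = 2 * d + 1 ∧ (∃ e ∈ μ, Odd e) ∧ (∃ e ∈ μ, 2 ≤ e) ∧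
      (∀ ν : Multiset ℕ, ν ≤ μ → ν.sum = 2 * h → ∀ e ∈ ν, e = 2) := by
    have core : ∀ (j o : ℕ), Odd o → ∀ ν : Multiset ℕ, ν ≤ Multiset.replicate j 2 + {o} → ν.sum = 2 * h →
        ∀ e ∈ ν, e = 2 := by
      intro j o ho ν hν hs e he
      by_contra hne
      have heo : e = o := by
        rcases Multiset.mem_add.1 (Multiset.mem_of_le hν he) with h' | h'
        · exact absurd (Multiset.eq_of_mem_replicate h') hne
        · exact Multiset.mem_singleton.1 h'
      subst heo
      obtain ⟨ν', rfl⟩ := Multiset.exists_cons_of_mem he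
      have hle : ν' ≤ Multiset.replicate j 2 := by
        have := hν
        rw [add_comm (Multiset.replicate j 2), Multiset.singleton_add] at this
        exact (Multiset.cons_le_cons_iff e).1 this
      obtain ⟨n, -, rfl⟩ := Multiset.le_replicate_iff.1 hle
      rw [Multiset.sum_cons, Multiset.sum_replicate, smul_eq_mul] at hs
      rw [Nat.odd_iff] at ho
      omega
    rcases Nat.even_or_odd d with ⟨j, hj⟩ | ⟨j, hj⟩
    · refine ⟨Multiset.replicate (j + j) 2 + {1}, ?_, ?_, by simp; omega,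
        ⟨1, by simp, odd_one⟩, ⟨2, Multiset.mem_add.2 (Or.inl (Multiset.mem_replicate.2 ⟨by omega, rfl⟩)), le_rfl⟩, core _ 1 odd_one⟩
      · intro e he
        rcases Multiset.mem_add.1 he with he | he
        · rw [Multiset.eq_of_mem_replicate he]; omega
        · rw [Multiset.mem_singleton.1 he]; omega
      · intro e he
        rw [Multiset.count_add, Multiset.count_replicate, Multiset.count_singleton,
          if_neg (show ¬ e = 1 by rintro rfl; exact Nat.not_even_one he), add_zero]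
        split
        · exact ⟨j, rfl⟩
        · exact ⟨0, rfl⟩
    · refine ⟨Multiset.replicate (2 * j) 2 + {3}, ?_, ?_, by simp; omega,
        ⟨3, by simp, by decide⟩, ⟨3, by simp, by omega⟩, core _ 3 (by decide)⟩
      · intro e he
        rcases Multiset.mem_add.1 he with he | he
        · rw [Multiset.eq_of_mem_replicate he]; omega
        · rw [Multiset.mem_singleton.1 he]; omega
      · intro e he
        rw [Multiset.count_add, Multiset.count_replicate, Multiset.count_singleton,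
          if_neg (show ¬ e = 3 by rintro rfl; exact absurd he (by decide)), add_zero]
        split
        · exact ⟨j, by omega⟩
        · exact ⟨0, rfl⟩
  obtain ⟨l, hl, L, a', hL⟩ : ∃ l, BlockConst l ∧ ∃ (L : (Idx p μ → F) ≃ₗ[F] (Unit ⊕ PI d → F)) (a' : F),
      ∀ v, Q (L v) = a' * model l v := by
    obtain ⟨l, l', hl, hl', hl0, hl0', -⟩ := exists_pair (F := F) (p := p)
      (FiniteField.exists_nonsquare (Spinor.ringChar_ne_two h2)) (fun e he => (hμ e he).2) hodd
    obtain ⟨L, a', -, hL⟩ := equiv_odd h2 (d := d) (by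
      rw [Module.finrank_fintype_fun_eq_card, card_idx fun e he => (hμ e he).2, hsum])
      (model l) (model_nondeg h2 hl hl0 hev)
    exact ⟨l, hl, L, a', hL⟩
  obtain ⟨W, ν, hW, hν, hs, -, hplus⟩ := split_of_allFix hp2 S C (m := 2 * h) (fun W hW => ⟨hW.1, hW.2.1⟩)
    hallP hμ h1 hl L (polar_of_equiv hl hev L hL)
  exact hW.2.2.1 (hplus (hcore ν hν hs))

end Cfsg.Agent.OrthClasses
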