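import Cfsg.Agent.Lib.OrthClasses.Elusive
import Mathlib

/-!
Elements of odd prime order, different from the characteristic, without an invariant non-degenerate
subspace of a given kind.
-/

set_option autoImplicit false
set_option linter.unusedSectionVars false

namespace Cfsg.Agent.OrthClasses

open Polynomial FormTorus

variable {F : Type*} [Field F] [Fintype F] {p q : ℕ} [Fact p.Prime] [CharP F p]

theorem en_linOf {κ : Type} [Fintype κ] [DecidableEq κ] (x : GL κ F) :
    en (TransvMax.linOf x) = Matrix.toLin' (x : Matrix κ κ F) :=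
  LinearMap.ext fun v => by
    rw [Matrix.toLin'_apply]
    exact TransvMax.linOf_apply x v

theorem elusive_odd_iff (hF : Fintype.card F = q) (h2 : (2 : F) ≠ 0) {r : ℕ} (hr : r.Prime) (hr2 : r ≠ 2)
    (hrp : r ≠ p) {i c : ℕ} (hi : i = orderOf (q : ZMod r)) (hc : c = if Even i then i else 2 * i)
    {d h : ℕ} (hd : 3 ≤ d) (hh : 1 ≤ h) (hhd : h ≤ d) {pl : Prop}
    (hrΩ : r ∣ Nat.card {W // Kind ⇑(FormsLib.qOdd d F) h pl W}) :
    (∀ x : GL (Unit ⊕ PI d) F, x ∈ Cfsg.Geo.omegaGL ⇑(FormsLib.qOdd d F) → orderOf x = r →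
      ∃ W, Kind ⇑(FormsLib.qOdd d F) h pl W ∧
        W.map (Matrix.toLin' (x : Matrix (Unit ⊕ PI d) (Unit ⊕ PI d) F)) ≤ W) ↔
      (c ≤ 2 * h ∧ 2 * h % c < (2 * d + 1) % c ∧ (2 * h % c = 0 → (pl ↔ (Odd i ∨ Even (2 * h / c))))) := by
  classical
  have := Fact.mk hr
  obtain ⟨h0, hq0⟩ := i_pos (p := p) hF hr hrp hi
  have hr0 : (r : F) ≠ 0 := by
    rw [Ne, CharP.cast_eq_zero_iff F p, Nat.prime_dvd_prime_iff_eq Fact.out hr]
    exact fun h => hrp h.symm
  have hti : i ∣ r - 1 := hi ▸ orderOf_dvd_of_pow_eq_one (ZMod.pow_card_sub_one_eq_one hq0)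
  have ht : (r - 1) / i * i = r - 1 := Nat.div_mul_cancel hti
  obtain ⟨S⟩ := exists_factors (p := p) hF hr hrp hi ht
  have hc0 : 0 < c := by rw [hc]; split <;> omega
  have hce : Even c := by
    rw [hc]; split
    · assumption
    · exact even_two_mul i
  set Q := FormsLib.qOdd d F
  have hQ : (QuadraticMap.polarBilin Q).Nondegenerate := FormsLib.qOdd_nondeg h2
  have hn : Module.finrank F (Unit ⊕ PI d → F) = 2 * d + 1 := by simp; omega
  have SQ : QMax.QSetting Q := ⟨hQ, by simp [Fintype.card_sum]; omega⟩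
  have hsmall : 2 * h < c → ¬ 2 * h < (2 * d + 1) % c := fun h1 h1' =>
    S.not_dvd_card hF hr hr2 hr0 h2 hi h0 hq0 ht hc hh hhd h1 h1' hrΩ
  rw [← elusive_arith hc0 hce (odd_two_mul_add_one d) (show 2 * h < 2 * d + 1 by omega)
    (fun v => pl ↔ (Odd i ∨ Even v)) hsmall]
  constructor
  · intro H u hu hcu
    obtain ⟨a, ha, hau⟩ := S.tuple_of_units hF hr hr2 hr0 hi h0 ht hc u
    obtain ⟨g, hg, hgr, hgc⟩ := S.exists_real hF hr hr2 hr0 h2 hi h0 (d := d) ha (by omega)
    have hgr' : g ^ r = 1 := LinearEquiv.toLinearMap_injective (by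
      exact (map_pow (LinearEquiv.automorphismGroup.toLinearMapMonoidHom (R := F)
        (M := Unit ⊕ PI d → F)) g r).trans hgr)
    have hx1 : TransvMax.glOf g ≠ (1 : GL (Unit ⊕ PI d) F) := fun e => by
      have hen : en g = 1 := LinearMap.ext fun v => by
        show g v = v
        rw [← TransvMax.glOf_mulVec g v, e]
        exact Matrix.one_mulVec v
      have ha0 : a = 0 := by
        refine S.tuple_inj (n := Module.finrank F (Unit ⊕ PI d → F)) (hgc.symm.trans ?_)
        rw [hen, LinearMap.charpoly_one]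
        simp [S2568.polyOf]
      rw [ha0] at hau
      simp only [Pi.zero_apply, Finset.sum_const_zero, mul_zero] at hau
      have := Nat.mul_pos hc0 hu
      omega
    obtain ⟨W, hW, hWx⟩ := H _ (JordanOrth.mem_omega_of_pow SQ h2 hg (hr.odd_of_ne_two hr2) hgr')
      (orderOf_eq_prime (by rw [← map_pow, hgr', map_one]) hx1)
    obtain ⟨b, hba, hbs, hb1, hb2, hb3⟩ := (S.fix_iff hF hr hr2 hr0 h2 hi h0 hq0 hh hhd (pl := pl) hg hgr hgc).1
      ⟨W, hW, fun w hw => hWx ⟨w, hw, by rw [Matrix.toLin'_apply, TransvMax.glOf_mulVec]⟩⟩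
    obtain ⟨v, hv, hvP⟩ := S.units hr hr2 hr0 hc b hbs
    have hle : i * ∑ y, b y ≤ i * ∑ y, a y := Nat.mul_le_mul_left i (Finset.sum_le_sum fun y _ => hba y)
    exact ⟨v, Nat.le_of_mul_le_mul_left (by omega : c * v ≤ c * u) hc0, by omega, by omega,
      fun e => (hb3 (by omega)).trans hvP⟩
  · intro H x hx hxo
    set g := TransvMax.linOf x
    have hg : ∀ v, Q (g v) = Q v := QMax.omegaGL_iso SQ hx
    have hgr : en g ^ r = 1 := by
      rw [en_linOf, ← Matrix.toLin'_pow, ← Units.val_pow_eq_pow_val, ← hxo, pow_orderOf_eq_one,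
        Units.val_one, Matrix.toLin'_one]
      rfl
    obtain ⟨a, hab, hac⟩ := S.exists_tuple hr hgr
    have has := S.sym_of_real hr hr0 hQ ⟨g, hg, hgr, hac⟩
    obtain ⟨u, hu, -⟩ := S.units hr hr2 hr0 hc a has
    have hu1 : 1 ≤ u := by
      by_contra hu0
      have ha0 : a = 0 := by
        funext y
        rw [show u = 0 by omega, mul_zero, Nat.mul_eq_zero] at hu
        exact (Finset.sum_eq_zero_iff.1 (hu.resolve_left h0.ne')) y (Finset.mem_univ y)
      rw [ha0] at hac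
      have : x = 1 := TransvMax.gl_ext fun v => by
        rw [Units.val_one, Matrix.one_mulVec, ← TransvMax.linOf_apply]
        exact S.eq_one_of_zero hr0 hgr hac v
      rw [this, orderOf_one] at hxo
      exact hr.one_lt.ne hxo
    obtain ⟨v, hvu, hv1, hv2, hv3⟩ := H u hu1 (by omega)
    obtain ⟨b, hba, hbs, hbv, hbP⟩ := S.exists_sub hF hr hr2 hr0 hi h0 hc has hu hvu
    obtain ⟨W, hW, hWg⟩ := (S.fix_iff hF hr hr2 hr0 h2 hi h0 hq0 hh hhd (pl := pl) hg hgr hac).2
      ⟨b, hba, hbs, by omega, by omega, fun e => (hv3 (by omega)).trans hbP.symm⟩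
    refine ⟨W, hW, ?_⟩
    rintro _ ⟨w, hw, rfl⟩
    rw [← en_linOf]
    exact hWg w hw

end Cfsg.Agent.OrthClasses
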