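import Cfsg.Agent.Lib.FormTorus.Dual
import Cfsg.Agent.S2568
import Mathlib

/-!
The irreducible factors of a prime cyclotomic polynomial and their duals.
-/

set_option autoImplicit false

namespace Cfsg.Agent.OrthClasses

open Polynomial FormTorus

variable {F : Type*} [Field F]

/-- The dual without conjugation. -/
noncomputable abbrev dual (f : F[X]) : F[X] := dualPoly (RingHom.id F) f

theorem aeval_dual {K : Type*} [Field K] [Algebra F K] {f : F[X]} {a : K} (ha0 : a ≠ 0)
    (ha : aeval a f = 0) : aeval a⁻¹ (dual f) = 0 := by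
  have := invertibleOfNonzero ha0
  have h := eval₂_reverse_mul_pow (algebraMap F K) a f
  rw [invOf_eq_inv] at h
  have h2 : aeval a⁻¹ f.reverse = 0 := by
    rcases mul_eq_zero.1 (h.trans ha) with h' | h'
    · exact h'
    · exact absurd h' (pow_ne_zero _ ha0)
  rw [dual, dualPoly, Polynomial.map_id, map_mul, h2, zero_mul]

theorem dual_prod {ι : Type*} (s : Finset ι) (f : ι → F[X]) :
    dual (∏ x ∈ s, f x) = ∏ x ∈ s, dual (f x) := by
  classical
  induction s using Finset.induction_on with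
  | empty =>
    simp only [Finset.prod_empty, dual, dualPoly, Polynomial.map_one]
    rw [← C_1, reverse_C, coeff_C_zero, RingHom.id_apply, inv_one, ← C_mul, one_mul]
  | insert a s ha ih => rw [Finset.prod_insert ha, Finset.prod_insert ha, dual, dualPoly_mul, ← ih]

theorem dual_pow (f : F[X]) (k : ℕ) : dual (f ^ k) = dual f ^ k := by
  rw [← Finset.card_range k, ← Finset.prod_const, dual_prod, Finset.prod_const]

theorem dual_X_sub_one : dual (X - C 1 : F[X]) = X - C 1 := by
  rw [dual, dualPoly, Polynomial.map_id, coeff_sub, coeff_X_zero, coeff_C_zero, zero_sub,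
    RingHom.id_apply]
  have h : (X - C 1 : F[X]).reverse = 1 - X := by
    ext n
    rcases n with _ | _ | n <;>
      simp [coeff_reverse, natDegree_X_sub_C, revAt, coeff_one, coeff_X, coeff_C, -map_one]
  rw [h, inv_neg, inv_one, map_neg, map_one]
  ring

variable (F) in
/-- The factors of the `r`th cyclotomic polynomial, all of degree `i`, in number `t`. -/
structure Factors (r i t : ℕ) where
  T : Finset F[X]
  irr : ∀ P ∈ T, Irreducible P
  monic : ∀ P ∈ T, P.Monic
  deg : ∀ P ∈ T, P.natDegree = i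
  not_mem : (X - C 1 : F[X]) ∉ T
  card : T.card = t
  prod : ∏ P ∈ T, P = cyclotomic r F

namespace Factors

variable {r i t : ℕ}

variable (S : Factors F r i t)

theorem dvd_cyclotomic {P : F[X]} (hP : P ∈ S.T) : P ∣ cyclotomic r F :=
  S.prod ▸ Finset.dvd_prod_of_mem _ hP

theorem root_facts (hr : r.Prime) {P : F[X]} (hP : P ∈ S.T) {K : Type*} [Field K] [Algebra F K]
    {a : K} (ha : aeval a P = 0) : a ^ r = 1 ∧ a ≠ 0 := by
  have := Fact.mk hr
  have h : a ^ r = 1 := by
    obtain ⟨c, hc⟩ := dvd_cyclotomic S hP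
    have h1 := congrArg (aeval a) (cyclotomic_prime_mul_X_sub_one F r)
    rw [hc, map_mul, map_mul, ha, zero_mul, zero_mul, map_sub, map_pow, aeval_X, map_one] at h1
    exact sub_eq_zero.1 h1.symm
  exact ⟨h, fun h0 => by rw [h0, zero_pow hr.ne_zero] at h; exact zero_ne_one h⟩

theorem coeff_zero (hr : r.Prime) {P : F[X]} (hP : P ∈ S.T) : P.coeff 0 ≠ 0 := fun h => by
  have h0 : aeval (0 : F) P = 0 := by simp [← coeff_zero_eq_eval_zero, h]
  exact (S.root_facts hr hP h0).2 rfl

theorem mem_of_root (hr : r.Prime) (hr0 : (r : F) ≠ 0) {K : Type*} [Field K] [Algebra F K]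
    {a : K} (ha : a ^ r = 1) (ha1 : a ≠ 1) : minpoly F a ∈ S.T := by
  have := Fact.mk hr
  have h1 : aeval a (cyclotomic r F) = 0 := by
    have h := congrArg (aeval a) (cyclotomic_prime_mul_X_sub_one F r)
    simp only [map_mul, map_sub, map_pow, aeval_X, map_one, ha, sub_self] at h
    exact (mul_eq_zero.1 h).resolve_right (sub_ne_zero.2 ha1)
  rw [← S.prod, map_prod, Finset.prod_eq_zero_iff] at h1
  obtain ⟨P, hP, hPa⟩ := h1
  rwa [← minpoly.eq_of_irreducible_of_monic (S.irr P hP) hPa (S.monic P hP)]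

theorem root_ne_one (hr : r.Prime) (hr0 : (r : F) ≠ 0) {P : F[X]} (hP : P ∈ S.T)
    {K : Type*} [Field K] [Algebra F K] {a : K} (ha : aeval a P = 0) : a ≠ 1 := fun h => by
  have := Fact.mk hr
  obtain ⟨c, hc⟩ := dvd_cyclotomic S hP
  subst h
  have h1 := congrArg (eval (1 : F)) hc
  rw [eval_one_cyclotomic_prime, eval_mul] at h1
  rw [← map_one (algebraMap F K), aeval_algebraMap_apply, map_eq_zero_iff _ (algebraMap F K).injective] at ha
  rw [coe_aeval_eq_eval] at ha
  rw [ha, zero_mul] at h1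
  exact hr0 h1

theorem dual_mem (hr : r.Prime) (hr0 : (r : F) ≠ 0) {P : F[X]} (hP : P ∈ S.T) : dual P ∈ S.T := by
  have := Fact.mk (S.irr P hP)
  set a := AdjoinRoot.root P
  have ha : aeval a P = 0 := by rw [AdjoinRoot.aeval_eq, AdjoinRoot.mk_self]
  obtain ⟨h1, h0⟩ := S.root_facts hr hP ha
  have hm := S.mem_of_root hr hr0 (a := a⁻¹) (by rw [inv_pow, h1, inv_one])
    (fun h => S.root_ne_one hr hr0 hP ha (inv_eq_one.1 h))
  have hc := S.coeff_zero hr hP
  have he : dual P = minpoly F a⁻¹ := eq_of_monic_of_dvd_of_natDegree_le (S.monic _ hm)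
    (monic_dualPoly hc) (minpoly.dvd F _ (aeval_dual h0 ha))
    (by rw [natDegree_dualPoly hc, S.deg P hP, S.deg _ hm])
  rw [he]
  exact hm

theorem dual_dual (hr : r.Prime) {P : F[X]} (hP : P ∈ S.T) : dual (dual P) = P :=
  dualPoly_dualPoly (fun _ => rfl) (S.monic P hP) (S.coeff_zero hr hP)

/-- The duality on the factors. -/
noncomputable def star (hr : r.Prime) (hr0 : (r : F) ≠ 0) : Equiv.Perm S.T :=
  Function.Involutive.toPerm (fun y => ⟨dual y.1, S.dual_mem hr hr0 y.2⟩)
    fun y => Subtype.ext (S.dual_dual hr y.2)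

theorem star_apply (hr : r.Prime) (hr0 : (r : F) ≠ 0) (y : S.T) :
    (S.star hr hr0 y : F[X]) = dual y.1 := rfl

theorem star_star (hr : r.Prime) (hr0 : (r : F) ≠ 0) (y : S.T) :
    S.star hr hr0 (S.star hr hr0 y) = y := Subtype.ext (S.dual_dual hr y.2)

theorem neg_one_of_even (hF : r.Prime) {q : ℕ} (hi : i = orderOf (q : ZMod r)) (he : Even i) (h0 : 0 < i) :
    (q : ZMod r) ^ (i / 2) = -1 := by
  have := Fact.mk hF
  obtain ⟨k, hk⟩ := he
  have h : (q : ZMod r) ^ (i / 2) * (q : ZMod r) ^ (i / 2) = 1 := by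
    rw [← pow_add, show i / 2 + i / 2 = i by omega, hi, pow_orderOf_eq_one]
  refine (mul_self_eq_one_iff.1 h).resolve_left fun h1 => ?_
  have := orderOf_dvd_of_pow_eq_one h1
  rw [← hi] at this
  have := Nat.le_of_dvd (by omega) this
  omega

variable [Fintype F] {q : ℕ}

theorem root_pow (hF : Fintype.card F = q) (hr : r.Prime) (hi : i = orderOf (q : ZMod r)) (he : Even i)
    (h0 : 0 < i) {P : F[X]} (hP : P ∈ S.T) {K : Type*} [Field K] [Algebra F K] {a : K}
    (ha : aeval a P = 0) : a ^ (Fintype.card F ^ (i / 2)) = a⁻¹ := by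
  obtain ⟨h1, ha0⟩ := S.root_facts hr hP ha
  have hd : r ∣ q ^ (i / 2) + 1 := by
    rw [← ZMod.natCast_eq_zero_iff, Nat.cast_add, Nat.cast_pow, neg_one_of_even hr hi he h0]
    simp
  obtain ⟨c, hc⟩ := hd
  refine eq_inv_of_mul_eq_one_left ?_
  rw [hF, ← pow_succ, hc, pow_mul, h1, one_pow]

theorem dual_eq_self (hF : Fintype.card F = q) (hr : r.Prime) (hr0 : (r : F) ≠ 0)
    (hi : i = orderOf (q : ZMod r)) (he : Even i) (h0 : 0 < i) {P : F[X]} (hP : P ∈ S.T) :
    dual P = P := by
  have := Fact.mk (S.irr P hP)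
  set a := AdjoinRoot.root P
  have ha : aeval a P = 0 := by rw [AdjoinRoot.aeval_eq, AdjoinRoot.mk_self]
  obtain ⟨-, ha0⟩ := S.root_facts hr hP ha
  have hd : aeval a⁻¹ P = 0 := by
    have h := congrArg (· ^ (Fintype.card F ^ (i / 2))) ha
    have hk : ∀ (j : ℕ) (b : AdjoinRoot P), (aeval b P) ^ (Fintype.card F ^ j) =
        aeval (b ^ (Fintype.card F ^ j)) P := by
      intro j
      induction j with
      | zero => simp
      | succ j ih =>
        intro b
        rw [pow_succ, pow_mul, ih, pow_mul, ← map_pow, ← FiniteField.expand_card, expand_aeval]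
    simp only [hk, S.root_pow hF hr hi he h0 hP ha] at h
    rw [h, zero_pow]
    exact pow_ne_zero _ Fintype.card_ne_zero
  have h1 := minpoly.eq_of_irreducible_of_monic (S.irr P hP) hd (S.monic P hP)
  have h2 := minpoly.eq_of_irreducible_of_monic (S.irr _ (S.dual_mem hr hr0 hP))
    (aeval_dual ha0 ha) (S.monic _ (S.dual_mem hr hr0 hP))
  exact h2.trans h1.symm

theorem dual_ne_self (hr : r.Prime) (hr2 : r ≠ 2) (ho : Odd i) {P : F[X]} (hP : P ∈ S.T) :
    dual P ≠ P := by
  intro heq
  have := Fact.mk (S.irr P hP)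
  set K := AdjoinRoot P
  set a : K := AdjoinRoot.root P with hadef
  have ha : aeval a P = 0 := by rw [hadef, AdjoinRoot.aeval_eq, AdjoinRoot.mk_self]
  obtain ⟨h1, ha0⟩ := S.root_facts hr hP ha
  have hinv : aeval a⁻¹ P = 0 := by
    have := aeval_dual ha0 ha
    rwa [heq] at this
  let pb := AdjoinRoot.powerBasis (S.irr P hP).ne_zero
  have : FiniteDimensional F K := pb.finite
  have : Finite K := Module.finite_of_finite F
  let φ : K →ₐ[F] K := AdjoinRoot.liftAlgHom P (Algebra.ofId F K) a⁻¹ hinv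
  have hφa : φ a = a⁻¹ := AdjoinRoot.liftAlgHom_root _ _ _ _
  let ψ : K ≃ₐ[F] K := AlgEquiv.ofBijective φ (Algebra.IsAlgebraic.algHom_bijective φ)
  have hψ2 : ψ ^ 2 = 1 := by
    refine AlgEquiv.coe_toAlgHom_injective (AdjoinRoot.algHom_ext (g₁ := (ψ ^ 2).toAlgHom) ?_)
    show φ (φ a) = a
    rw [hφa, map_inv₀, hφa, inv_inv]
  have hψ1 : ψ ≠ 1 := fun h => by
    have h2 : a⁻¹ = a := hφa.symm.trans (AlgEquiv.congr_fun h a)
    have h3 : a ^ 2 = 1 := by rw [sq]; nth_rw 1 [← h2]; exact inv_mul_cancel₀ ha0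
    have h4 : a ^ Nat.gcd 2 r = 1 := pow_gcd_eq_one.2 ⟨h3, h1⟩
    rw [(Nat.coprime_primes Nat.prime_two hr).2 (Ne.symm hr2), pow_one] at h4
    have h5 : P = X - C 1 := by
      refine eq_of_monic_of_dvd_of_natDegree_le (monic_X_sub_C 1) (S.monic P hP) ?_ ?_
      · rw [dvd_iff_isRoot, IsRoot]
        rw [h4, ← map_one (algebraMap F K), aeval_algebraMap_apply,
          map_eq_zero_iff _ (algebraMap F K).injective, coe_aeval_eq_eval] at ha
        exact ha
      · rw [S.deg P hP, natDegree_X_sub_C]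
        have h6 := natDegree_eq_of_degree_eq_some
          (degree_eq_one_of_irreducible_of_root (S.irr P hP) (x := 1) (by
            rw [h4, ← map_one (algebraMap F K), aeval_algebraMap_apply,
              map_eq_zero_iff _ (algebraMap F K).injective, coe_aeval_eq_eval] at ha
            exact ha))
        rw [S.deg P hP] at h6
        exact h6.le
    exact S.not_mem (h5 ▸ hP)
  have hd := orderOf_dvd_natCard (x := ψ)
  rw [orderOf_eq_prime hψ2 hψ1, IsGalois.card_aut_eq_finrank, pb.finrank,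
    AdjoinRoot.powerBasis_dim, S.deg P hP] at hd
  exact Nat.not_even_iff_odd.2 ho (even_iff_two_dvd.2 hd)

end Factors

section Exists

variable [Fintype F] {p q : ℕ} [Fact p.Prime] [CharP F p] {r i t : ℕ}

theorem i_pos (hF : Fintype.card F = q) (hr : r.Prime) (hrp : r ≠ p)
    (hi : i = orderOf (q : ZMod r)) : 0 < i ∧ (q : ZMod r) ≠ 0 := by
  have := Fact.mk hr
  obtain ⟨f, -, hcard⟩ := FiniteField.card F p
  have hq0 : (q : ZMod r) ≠ 0 := by
    rw [← hF, hcard, Nat.cast_pow]
    exact pow_ne_zero _ (by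
      rw [Ne, ZMod.natCast_eq_zero_iff, Nat.prime_dvd_prime_iff_eq hr Fact.out]; exact hrp)
  refine ⟨?_, hq0⟩
  rw [hi, orderOf_pos_iff, isOfFinOrder_iff_pow_eq_one]
  exact ⟨r - 1, by have := hr.two_le; omega, ZMod.pow_card_sub_one_eq_one hq0⟩

theorem exists_factors (hF : Fintype.card F = q) (hr : r.Prime) (hrp : r ≠ p)
    (hi : i = orderOf (q : ZMod r)) (ht : t * i = r - 1) : Nonempty (Factors F r i t) := by
  classical
  have := Fact.mk hr
  obtain ⟨f, -, hcard⟩ := FiniteField.card F p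
  have hco : p.Coprime r := (Nat.coprime_primes Fact.out hr).2 (Ne.symm hrp)
  have hi0 := (i_pos (p := p) hF hr hrp hi).1
  let Φ : F[X] := cyclotomic r F
  have hr0 : (r : F) ≠ 0 := by
    rw [Ne, CharP.cast_eq_zero_iff F p, Nat.prime_dvd_prime_iff_eq Fact.out hr]
    exact fun h => hrp h.symm
  have hR : (X ^ r - C 1 : F[X]) = Φ * (X - C 1) := by
    rw [map_one]; exact (cyclotomic_prime_mul_X_sub_one F r).symm
  have hsq : Squarefree Φ :=
    (separable_X_pow_sub_C (1 : F) hr0 one_ne_zero).squarefree.squarefree_of_dvd ⟨_, hR⟩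
  have hΦ0 : Φ ≠ 0 := cyclotomic_ne_zero r F
  let T : Finset F[X] := (UniqueFactorizationMonoid.normalizedFactors Φ).toFinset
  have hT : ∀ P ∈ T, Irreducible P ∧ P.Monic ∧ P ∣ Φ := fun P hP => by
    have hP' := Multiset.mem_toFinset.1 hP
    have hirr := UniqueFactorizationMonoid.irreducible_of_normalized_factor P hP'
    refine ⟨hirr, ?_, UniqueFactorizationMonoid.dvd_of_mem_normalizedFactors hP'⟩
    rw [← UniqueFactorizationMonoid.normalize_normalized_factor P hP']
    exact monic_normalize hirr.ne_zero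
  have hdeg : ∀ P ∈ T, P.natDegree = i := fun P hP => by
    have h := natDegree_of_dvd_cyclotomic_of_irreducible (K := F) (f := (f : ℕ)) hcard hco
      (hT P hP).2.2 (hT P hP).1
    rw [h, ← orderOf_units, ZMod.coe_unitOfCoprime, ← hcard, hF, hi]
  have e : (∏ P ∈ T, P) = Φ := by
    have hnd := (UniqueFactorizationMonoid.squarefree_iff_nodup_normalizedFactors hΦ0).1 hsq
    have hprod := UniqueFactorizationMonoid.prod_normalizedFactors_eq hΦ0
    rw [(cyclotomic.monic r F).normalize_eq_self] at hprod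
    conv_rhs => rw [show Φ = cyclotomic r F from rfl, ← hprod]
    rw [Finset.prod_eq_multiset_prod, Multiset.toFinset_val, hnd.dedup, Multiset.map_id']
  refine ⟨⟨T, fun P hP => (hT P hP).1, fun P hP => (hT P hP).2.1, hdeg, ?_, ?_, e⟩⟩
  · intro h
    have := (hT _ h).2.2
    rw [dvd_iff_isRoot, IsRoot, eval_one_cyclotomic_prime] at this
    exact hr0 this
  · have h1 : Φ.natDegree = T.card * i := by
      rw [← e, natDegree_prod_of_monic _ _ fun P hP => (hT P hP).2.1,
        Finset.sum_congr rfl hdeg, Finset.sum_const, smul_eq_mul]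
    rw [natDegree_cyclotomic, Nat.totient_prime hr] at h1
    exact Nat.eq_of_mul_eq_mul_right hi0 (h1.symm.trans ht.symm)

end Exists

/-- A set of representatives of the pairs of a fixed-point-free involution. -/
theorem exists_half {α : Type*} [Fintype α] (σ : Equiv.Perm α) (h : ∀ x, σ (σ x) = x) (hne : ∀ x, σ x ≠ x) :
    ∃ P : α → Prop, ∀ x, P (σ x) ↔ ¬ P x := by
  classical
  let e := Fintype.equivFin α
  refine ⟨fun x => e x < e (σ x), fun x => ?_⟩
  show e (σ x) < e (σ (σ x)) ↔ _
  rw [h, not_lt]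
  exact ⟨le_of_lt, fun hle => lt_of_le_of_ne hle fun he => hne x (e.injective he)⟩

end Cfsg.Agent.OrthClasses
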