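import Cfsg.Agent.Lib.OrthClasses.Factors
import Mathlib

/-!
Quadratic spaces with an isometry of prime order and prescribed characteristic polynomial, without
fixed vectors.
-/

set_option autoImplicit false

namespace Cfsg.Agent.OrthClasses

open Polynomial FormTorus

variable {F : Type*} [Field F]

variable (F) in
/-- There is a non-degenerate space of dimension `n` with an isometry killed by `r` of
characteristic polynomial `f`. -/
def Blk (r n : ℕ) (f : F[X]) : Prop :=
  ∃ (Q : QuadraticForm F (Fin n → F)) (g : (Fin n → F) ≃ₗ[F] (Fin n → F)),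
    (QuadraticMap.polarBilin Q).Nondegenerate ∧ (∀ v, Q (g v) = Q v) ∧ en g ^ r = 1 ∧
      LinearMap.charpoly (en g) = f

variable {r : ℕ}

theorem blk_of {V : Type*} [AddCommGroup V] [Module F V] [FiniteDimensional F V] {n : ℕ}
    (hn : Module.finrank F V = n) (Q : QuadraticForm F V)
    (hQ : (QuadraticMap.polarBilin Q).Nondegenerate) (g : V ≃ₗ[F] V) (hg : ∀ v, Q (g v) = Q v)
    (hgr : en g ^ r = 1) : Blk F r n (LinearMap.charpoly (en g)) := by
  let e : V ≃ₗ[F] (Fin n → F) := (Module.finBasisOfFinrankEq F V hn).equivFun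
  let g' : (Fin n → F) ≃ₗ[F] (Fin n → F) := (e.symm.trans g).trans e
  refine ⟨Q.comp e.symm.toLinearMap, g', ?_, fun v => ?_, ?_, ?_⟩
  · refine ⟨fun x hx => ?_, fun x hx => ?_⟩
    · refine e.symm.injective ((hQ.1 (e.symm x) fun y => ?_).trans (map_zero _).symm)
      have := hx (e y)
      simpa [QuadraticMap.polar, map_add] using this
    · refine e.symm.injective ((hQ.2 (e.symm x) fun y => ?_).trans (map_zero _).symm)
      have := hx (e y)
      simpa [QuadraticMap.polar, map_add] using this
  · simp [g', hg]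
  · have h : en g' = e.conjAlgEquiv F (en g) := LinearMap.ext fun v => rfl
    rw [h, ← map_pow, hgr, map_one]
  · rw [← e.charpoly_conj (en g)]
    rfl

theorem blk_zero : Blk F r 0 (1 : F[X]) := by
  refine ⟨0, LinearEquiv.refl F _, ⟨fun x _ => Subsingleton.elim _ _, fun x _ => Subsingleton.elim _ _⟩,
    fun _ => rfl, LinearMap.ext fun v => Subsingleton.elim _ _, ?_⟩
  exact (Polynomial.eq_one_of_monic_natDegree_zero (LinearMap.charpoly_monic _)
    (by rw [LinearMap.charpoly_natDegree, Module.finrank_fin_fun]))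

theorem blk_mul {m n : ℕ} {f g : F[X]} (hf : Blk F r m f) (hg : Blk F r n g) :
    Blk F r (m + n) (f * g) := by
  obtain ⟨Q₁, g₁, hQ₁, hg₁, hr₁, rfl⟩ := hf
  obtain ⟨Q₂, g₂, hQ₂, hg₂, hr₂, rfl⟩ := hg
  rw [← LinearMap.charpoly_prodMap]
  refine blk_of (by simp) (Q₁.prod Q₂) ?_ (g₁.prodCongr g₂) (fun v => ?_) ?_
  · have h : ∀ x, (∀ y, QuadraticMap.polar (Q₁.prod Q₂) x y = 0) → x = 0 := fun x hx =>
      Prod.ext (hQ₁.1 _ fun y => by
          have := hx (y, 0)
          simpa [QuadraticMap.polar, QuadraticMap.prod_apply] using this)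
        (hQ₂.1 _ fun y => by
          have := hx (0, y)
          simpa [QuadraticMap.polar, QuadraticMap.prod_apply] using this)
    exact ⟨h, fun x hx => h x fun y => by rw [QuadraticMap.polar_comm]; exact hx y⟩
  · simp [hg₁, hg₂]
  · show (LinearMap.prodMapRingHom F _ _ (en g₁, en g₂)) ^ r = 1
    rw [← map_pow, Prod.pow_mk, hr₁, hr₂]
    exact map_one _

theorem blk_pow {m : ℕ} {f : F[X]} (hf : Blk F r m f) (k : ℕ) : Blk F r (k * m) (f ^ k) := by
  induction k with
  | zero => simpa using blk_zero
  | succ k ih => rw [pow_succ, Nat.succ_mul]; exact blk_mul ih hf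

theorem blk_prod {κ : Type*} (s : Finset κ) (d : κ → ℕ) (f : κ → F[X])
    (h : ∀ x ∈ s, Blk F r (d x) (f x)) : Blk F r (∑ x ∈ s, d x) (∏ x ∈ s, f x) := by
  classical
  induction s using Finset.induction_on with
  | empty => simpa using blk_zero
  | insert a s ha ih =>
    rw [Finset.sum_insert ha, Finset.prod_insert ha]
    exact blk_mul (h a (Finset.mem_insert_self a s)) (ih fun x hx => h x (Finset.mem_insert_of_mem hx))

section Field

variable {K : Type*} [Field K] [Algebra F K] [FiniteDimensional F K]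

theorem charpoly_lmul (a : K) (h : (minpoly F a).natDegree = Module.finrank F K) :
    (Algebra.lmul F K a).charpoly = minpoly F a := by
  refine eq_of_monic_of_dvd_of_natDegree_le (minpoly.monic (Algebra.IsIntegral.isIntegral a))
    (LinearMap.charpoly_monic _) (minpoly.dvd F a ?_) (by rw [LinearMap.charpoly_natDegree, h])
  have h1 := LinearMap.aeval_self_charpoly (Algebra.lmul F K a)
  rw [aeval_algHom_apply] at h1
  exact (map_eq_zero_iff _ Algebra.lmul_injective).1 h1

/-- Multiplication by a non-zero element. -/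
noncomputable def mulE (a : K) (ha : a ≠ 0) : K ≃ₗ[F] K :=
  LinearEquiv.ofBijective (Algebra.lmul F K a)
    ⟨mul_right_injective₀ ha, fun y => ⟨a⁻¹ * y, mul_inv_cancel_left₀ ha y⟩⟩

theorem en_mulE (a : K) (ha : a ≠ 0) : en (mulE (F := F) a ha) = Algebra.lmul F K a := rfl

end Field

namespace Factors

variable [Fintype F] {q i t : ℕ} (S : Factors F r i t)

theorem blk_pair (hr : r.Prime) (hr0 : (r : F) ≠ 0) {P : F[X]} (hP : P ∈ S.T) :
    Blk F r (i + i) (P * dual P) := by
  have := Fact.mk (S.irr P hP)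
  set K := AdjoinRoot P
  set a : K := AdjoinRoot.root P with hadef
  have ha : aeval a P = 0 := by rw [hadef, AdjoinRoot.aeval_eq, AdjoinRoot.mk_self]
  obtain ⟨h1, ha0⟩ := S.root_facts hr hP ha
  let pb := AdjoinRoot.powerBasis (S.irr P hP).ne_zero
  have : FiniteDimensional F K := pb.finite
  have : Finite K := Module.finite_of_finite F
  have hfr : Module.finrank F K = i := by
    rw [pb.finrank, AdjoinRoot.powerBasis_dim, S.deg P hP]
  have hmin : minpoly F a = P := (minpoly.eq_of_irreducible_of_monic (S.irr P hP) ha (S.monic P hP)).symm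
  have hd := S.dual_mem hr hr0 hP
  have hmin' : minpoly F a⁻¹ = dual P :=
    (minpoly.eq_of_irreducible_of_monic (S.irr _ hd) (aeval_dual ha0 ha) (S.monic _ hd)).symm
  let b : LinearMap.BilinForm F (K × K) :=
    LinearMap.mk₂ F (fun x y => Algebra.trace F K (x.1 * y.2))
      (fun x x' y => by simp [add_mul]) (fun c x y => by simp)
      (fun x y y' => by simp [mul_add]) (fun c x y => by simp)
  have hb : ∀ x y, b x y = Algebra.trace F K (x.1 * y.2) := fun _ _ => rfl
  have key := blk_of (r := r) (n := i + i) (V := K × K) (by simp [hfr]) b.toQuadraticMap ?_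
    ((mulE a ha0).prodCongr (mulE a⁻¹ (inv_ne_zero ha0))) (fun v => ?_) ?_
  · have e : en ((mulE (F := F) a ha0).prodCongr (mulE a⁻¹ (inv_ne_zero ha0))) =
        (Algebra.lmul F K a).prodMap (Algebra.lmul F K a⁻¹) := rfl
    rwa [e, LinearMap.charpoly_prodMap, charpoly_lmul, charpoly_lmul, hmin, hmin'] at key
    · rw [hmin', hfr, S.deg _ hd]
    · rw [hmin, hfr, S.deg _ hP]
  · have h : ∀ x, (∀ y, QuadraticMap.polar b.toQuadraticMap x y = 0) → x = 0 := fun x hx => by
      refine Prod.ext ((traceForm_nondegenerate F K).1 x.1 fun y => ?_)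
        ((traceForm_nondegenerate F K).1 x.2 fun y => ?_)
      · have := hx (0, y)
        rw [LinearMap.BilinMap.polar_toQuadraticMap, hb, hb] at this
        rw [Algebra.traceForm_apply]
        simpa using this
      · have := hx (y, 0)
        rw [LinearMap.BilinMap.polar_toQuadraticMap, hb, hb] at this
        rw [Algebra.traceForm_apply, mul_comm]
        simpa using this
    exact ⟨h, fun x hx => h x fun y => by rw [QuadraticMap.polar_comm]; exact hx y⟩
  · rw [LinearMap.BilinMap.toQuadraticMap_apply, LinearMap.BilinMap.toQuadraticMap_apply, hb, hb]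
    congr 1
    show a * v.1 * (a⁻¹ * v.2) = v.1 * v.2
    linear_combination (v.1 * v.2) * mul_inv_cancel₀ ha0
  · show (LinearMap.prodMapRingHom F K K (Algebra.lmul F K a, Algebra.lmul F K a⁻¹)) ^ r = 1
    rw [← map_pow, Prod.pow_mk, ← map_pow, ← map_pow, inv_pow, h1, inv_one, map_one]
    exact map_one _

theorem blk_self (hF : Fintype.card F = q) (hr : r.Prime) (hi : i = orderOf (q : ZMod r)) (he : Even i)
    (h0 : 0 < i) {P : F[X]} (hP : P ∈ S.T) : Blk F r i P := by
  have := Fact.mk (S.irr P hP)
  set K := AdjoinRoot P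
  set a : K := AdjoinRoot.root P with hadef
  have ha : aeval a P = 0 := by rw [hadef, AdjoinRoot.aeval_eq, AdjoinRoot.mk_self]
  obtain ⟨h1, ha0⟩ := S.root_facts hr hP ha
  let pb := AdjoinRoot.powerBasis (S.irr P hP).ne_zero
  have : FiniteDimensional F K := pb.finite
  have : Finite K := Module.finite_of_finite F
  have := Fintype.ofFinite K
  have hfr : Module.finrank F K = i := by
    rw [pb.finrank, AdjoinRoot.powerBasis_dim, S.deg P hP]
  have hmin : minpoly F a = P := (minpoly.eq_of_irreducible_of_monic (S.irr P hP) ha (S.monic P hP)).symm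
  let τ : K →ₐ[F] K := (FiniteField.frobeniusAlgHom F K) ^ (i / 2)
  have hτ : ∀ x : K, τ x = x ^ (Fintype.card F ^ (i / 2)) := fun x => by
    show (⇑((FiniteField.frobeniusAlgHom F K) ^ (i / 2))) x = _
    rw [AlgHom.coe_pow, FiniteField.coe_frobeniusAlgHom, pow_iterate]
  have hττ : ∀ x, τ (τ x) = x := fun x => by
    rw [hτ, hτ, ← pow_mul, ← pow_add, show i / 2 + i / 2 = i by obtain ⟨k, hk⟩ := he; omega]
    have hc : Fintype.card K = Fintype.card F ^ i := by
      rw [Module.card_eq_pow_finrank (K := F), hfr]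
    rw [← hc, FiniteField.pow_card]
  have hτa : τ a = a⁻¹ := (hτ a).trans (S.root_pow hF hr hi he h0 hP ha)
  have htr : ∀ x, Algebra.trace F K (τ x) = Algebra.trace F K x := fun x =>
    Algebra.trace_eq_of_algEquiv (AlgEquiv.ofBijective τ (Algebra.IsAlgebraic.algHom_bijective τ)) x
  obtain ⟨c, hc⟩ : ∃ c : K, c + τ c = 1 := by
    suffices ∃ d : K, d + τ d ≠ 0 by
      obtain ⟨d, hd⟩ := this
      refine ⟨d / (d + τ d), ?_⟩
      rw [map_div₀, map_add, hττ, add_comm (τ d) d, ← add_div, div_self hd]
    by_contra h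
    push Not at h
    have h2 := h 1
    rw [map_one] at h2
    have hid : τ a = a := by linear_combination h a - a * h2
    have h4 : a ^ 2 = 1 := by
      rw [sq]; nth_rw 2 [← hid]; rw [hτa, mul_inv_cancel₀ ha0]
    have hfac : (a - 1) * (a - 1) = 0 := by linear_combination h4 + (1 - a) * h2
    have ha1 : a = 1 := sub_eq_zero.1 ((mul_self_eq_zero).1 hfac)
    have : P = X - C 1 := by
      refine ((minpoly.eq_of_irreducible_of_monic (S.irr P hP) ha (S.monic P hP)).trans ?_)
      rw [ha1, ← map_one (algebraMap F K), minpoly.eq_X_sub_C]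
    exact S.not_mem (this ▸ hP)
  let b : LinearMap.BilinForm F K :=
    LinearMap.mk₂ F (fun x y => Algebra.trace F K (c * (x * τ y)))
      (fun x x' y => by simp [add_mul, mul_add]) (fun k x y => by simp)
      (fun x y y' => by simp [mul_add]) (fun k x y => by simp)
  have hb : ∀ x y, b x y = Algebra.trace F K (c * (x * τ y)) := fun _ _ => rfl
  have key := blk_of (r := r) (n := i) (V := K) hfr b.toQuadraticMap ?_ (mulE a ha0) (fun v => ?_) ?_
  · rwa [en_mulE, charpoly_lmul, hmin] at key
    rw [hmin, hfr, S.deg _ hP]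
  · have hp : ∀ x y, QuadraticMap.polar b.toQuadraticMap x y = Algebra.trace F K (x * τ y) := fun x y => by
      rw [LinearMap.BilinMap.polar_toQuadraticMap, hb, hb, ← htr (c * (y * τ x)), ← map_add]
      congr 1
      rw [map_mul, map_mul, hττ]
      linear_combination (x * τ y) * hc
    have h : ∀ x, (∀ y, QuadraticMap.polar b.toQuadraticMap x y = 0) → x = 0 := fun x hx => by
      refine (traceForm_nondegenerate F K).1 x fun y => ?_
      have := hx (τ y)
      rwa [hp, hττ] at this
    exact ⟨h, fun x hx => h x fun y => by rw [QuadraticMap.polar_comm]; exact hx y⟩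
  · rw [LinearMap.BilinMap.toQuadraticMap_apply, LinearMap.BilinMap.toQuadraticMap_apply, hb, hb]
    congr 1
    show c * (a * v * τ (a * v)) = c * (v * τ v)
    rw [map_mul, hτa]
    linear_combination (c * v * τ v) * mul_inv_cancel₀ ha0
  · rw [en_mulE, ← map_pow, h1, map_one]

/-- Every admissible tuple without fixed vectors. -/
theorem exists_blk (hF : Fintype.card F = q) (hr : r.Prime) (hr2 : r ≠ 2) (hr0 : (r : F) ≠ 0)
    (hi : i = orderOf (q : ZMod r)) (h0 : 0 < i) (a : S.T → ℕ)
    (ha : ∀ y, a (S.star hr hr0 y) = a y) : Blk F r (i * ∑ y, a y) (∏ y : S.T, (y : F[X]) ^ a y) := by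
  classical
  rcases Nat.even_or_odd i with he | ho
  · rw [Finset.mul_sum]
    refine blk_prod _ _ _ fun y _ => ?_
    rw [mul_comm]
    exact blk_pow (S.blk_self hF hr hi he h0 y.2) _
  · obtain ⟨H, hH⟩ := exists_half (S.star hr hr0) (S.star_star hr hr0)
      (fun y h => S.dual_ne_self hr hr2 ho y.2 (congrArg Subtype.val h))
    have hmem : ∀ y : S.T, y ∈ Finset.univ.filter H ↔
        S.star hr hr0 y ∈ Finset.univ.filter (fun y => ¬ H y) := fun y => by
      simp [hH]
    have key := blk_prod (r := r) (Finset.univ.filter H) (fun y : S.T => a y * (i + i))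
      (fun y : S.T => ((y : F[X]) * dual y.1) ^ a y) fun y _ => blk_pow (S.blk_pair hr hr0 y.2) _
    convert key using 1
    · rw [← Finset.sum_filter_add_sum_filter_not Finset.univ H a, ← Finset.sum_mul,
        ← Finset.sum_equiv (S.star hr hr0) hmem (fun y _ => (ha y).symm)]
      ring
    · rw [← Finset.prod_filter_mul_prod_filter_not Finset.univ H,
        ← Finset.prod_equiv (S.star hr hr0) hmem (f := fun y => dual y.1 ^ a y)
          (fun y _ => by rw [ha, S.star_apply]), ← Finset.prod_mul_distrib]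
      simp only [mul_pow]

end Factors

end Cfsg.Agent.OrthClasses
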