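import Cfsg.Agent.Lib.OrthClasses.Count
import Mathlib

/-!
Counting admissible tuples and the criterion for their realisation.
-/

set_option autoImplicit false

namespace Cfsg.Agent.OrthClasses

open Polynomial FormTorus

theorem card_le (T : Type*) [Fintype T] (N : ℕ) :
    Nat.card {a : T → ℕ // a ≠ 0 ∧ ∑ x, a x ≤ N} =
      (N + Fintype.card T).choose (Fintype.card T) - 1 := by
  classical
  have hA := S2568.card_bounded_sum T N
  let A := {a : T → ℕ // ∑ x, a x ≤ N}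
  have : Finite A := Nat.finite_of_card_ne_zero (by
    show Nat.card {a : T → ℕ // ∑ x, a x ≤ N} ≠ 0
    rw [hA]; exact (Nat.choose_pos (Nat.le_add_left _ _)).ne')
  have : Fintype A := Fintype.ofFinite A
  let a0 : A := ⟨0, by simp⟩
  let e : {a : T → ℕ // a ≠ 0 ∧ ∑ x, a x ≤ N} ≃ {a : A // ¬ a = a0} :=
    { toFun := fun a => ⟨⟨a.1, a.2.2⟩, fun h => a.2.1 (congrArg Subtype.val h)⟩
      invFun := fun a => ⟨a.1.1, fun h => a.2 (Subtype.ext h), a.1.2⟩
      left_inv := fun _ => rfl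
      right_inv := fun _ => rfl }
  rw [← hA, Nat.card_congr e, Nat.card_eq_fintype_card, Nat.card_eq_fintype_card,
    Fintype.card_subtype_compl, Fintype.card_subtype_eq]

theorem card_le_excl (T : Type*) [Fintype T] (N : ℕ) (hc : 1 ≤ Fintype.card T) (P : Prop)
    [Decidable P] (hN : P → 1 ≤ N) :
    Nat.card {a : T → ℕ // a ≠ 0 ∧ ∑ x, a x ≤ N ∧ ¬ (P ∧ ∑ x, a x = N)} =
      (N + Fintype.card T).choose (Fintype.card T) - 1 -
        (if P then (N + Fintype.card T - 1).choose (Fintype.card T - 1) else 0) := by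
  by_cases hP : P
  · obtain ⟨n, rfl⟩ : ∃ n, N = n + 1 := ⟨N - 1, by have := hN hP; omega⟩
    rw [if_pos hP, Nat.card_congr (Equiv.subtypeEquivRight (q := fun a : T → ℕ => a ≠ 0 ∧ ∑ x, a x ≤ n)
      fun a => and_congr_right fun _ => by simp [hP]; omega), card_le]
    obtain ⟨c, hc'⟩ : ∃ c, Fintype.card T = c + 1 := ⟨Fintype.card T - 1, by omega⟩
    rw [hc', Nat.add_sub_cancel, show n + 1 + (c + 1) - 1 = n + c + 1 by omega,
      show n + 1 + (c + 1) = n + c + 1 + 1 by omega, Nat.choose_succ_succ (n + c + 1) c,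
      show n + (c + 1) = n + c + 1 by omega]
    simp only [Nat.succ_eq_add_one]
    omega
  · rw [if_neg hP, Nat.sub_zero, ← card_le]
    exact Nat.card_congr (Equiv.subtypeEquivRight fun a => by simp [hP])

theorem sum_double {α : Type*} [Fintype α] (σ : Equiv.Perm α) {H : α → Prop} [DecidablePred H]
    (hH : ∀ x, H (σ x) ↔ ¬ H x) (a : α → ℕ) (ha : ∀ x, a (σ x) = a x) :
    ∑ x, a x = 2 * ∑ x : {x // H x}, a x := by
  rw [← Finset.sum_filter_add_sum_filter_not Finset.univ H a,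
    ← Finset.sum_equiv σ (s := Finset.univ.filter H) (t := Finset.univ.filter fun x => ¬ H x)
      (f := a) (g := a) (fun y => by simp [hH]) (fun y _ => (ha y).symm),
    ← Finset.sum_subtype (Finset.univ.filter H) (fun x => by simp) a, two_mul]

theorem card_half {α : Type*} [Fintype α] (σ : Equiv.Perm α) {H : α → Prop} [DecidablePred H]
    (hH : ∀ x, H (σ x) ↔ ¬ H x) : Fintype.card α = 2 * Fintype.card {x // H x} := by
  have := sum_double σ hH (fun _ => 1) (fun _ => rfl)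
  simpa using this

/-- Symmetric tuples are tuples on a set of representatives. -/
theorem card_sym {α : Type*} [Fintype α] (σ : Equiv.Perm α) (hσ : ∀ x, σ (σ x) = x) {H : α → Prop}
    [DecidablePred H] (hH : ∀ x, H (σ x) ↔ ¬ H x) (R : ℕ → Prop) :
    Nat.card {a : α → ℕ // a ≠ 0 ∧ (∀ x, a (σ x) = a x) ∧ R (∑ x, a x)} =
      Nat.card {b : {x // H x} → ℕ // b ≠ 0 ∧ R (2 * ∑ x, b x)} := by
  let ext : ({x // H x} → ℕ) → α → ℕ := fun b x =>
    if h : H x then b ⟨x, h⟩ else b ⟨σ x, (hH x).2 h⟩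
  have h1 : ∀ b x, ext b (σ x) = ext b x := by
    intro b x
    simp only [ext]
    by_cases h : H x
    · rw [dif_pos h, dif_neg (fun h' => (hH x).1 h' h)]
      congr 1
      exact Subtype.ext (hσ x)
    · rw [dif_neg h, dif_pos ((hH x).2 h)]
  have h2 : ∀ b (x : {x // H x}), ext b x = b x := fun b x => by simp [ext, x.2]
  have h3 : ∀ a : α → ℕ, (∀ x, a (σ x) = a x) → ext (fun x => a x) = a := fun a ha => by
    funext x
    by_cases h : H x
    · simp [ext, h]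
    · simp [ext, h, ha]
  refine Nat.card_congr
    { toFun := fun a => ⟨fun x => a.1 x, fun h => a.2.1 ?_, by rw [← sum_double σ hH a.1 a.2.2.1]; exact a.2.2.2⟩
      invFun := fun b => ⟨ext b.1, fun h => b.2.1 ?_, h1 b.1, ?_⟩
      left_inv := fun a => Subtype.ext (h3 a.1 a.2.2.1)
      right_inv := fun b => Subtype.ext (funext (h2 b.1)) }
  · rw [← h3 a.1 a.2.2.1, h]
    funext x
    simp [ext]
  · funext x
    rw [← h2 b.1 x, h]
    rfl
  · rw [sum_double σ hH _ (h1 b.1)]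
    simp only [h2]
    exact b.2.2

namespace Factors

variable {F : Type*} [Field F] [Fintype F] {r i t q : ℕ} (S : Factors F r i t)

include S in
theorem t_half (hr : r.Prime) (hr2 : r ≠ 2) (hr0 : (r : F) ≠ 0) (ho : Odd i) (ht : t * i = r - 1) :
    ∃ (H : S.T → Prop), (∀ y, H (S.star hr hr0 y) ↔ ¬ H y) ∧
      Nat.card {y // H y} = t / 2 ∧ 1 ≤ t / 2 := by
  classical
  obtain ⟨H, hH⟩ := exists_half (S.star hr hr0) (S.star_star hr hr0)
    (fun y h => S.dual_ne_self hr hr2 ho y.2 (congrArg Subtype.val h))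
  refine ⟨H, hH, ?_⟩
  have h := card_half (S.star hr hr0) hH
  rw [Fintype.card_coe, S.card] at h
  have h1 : 1 ≤ t := by
    rcases Nat.eq_zero_or_pos t with rfl | h'
    · have := hr.two_le; omega
    · exact h'
  rw [Nat.card_eq_fintype_card]
  omega

theorem sym_of_even (hF : Fintype.card F = q) (hr : r.Prime) (hr0 : (r : F) ≠ 0)
    (hi : i = orderOf (q : ZMod r)) (he : Even i) (h0 : 0 < i) (a : S.T → ℕ) (y : S.T) :
    a (S.star hr hr0 y) = a y :=
  congrArg a (Subtype.ext (S.dual_eq_self hF hr hr0 hi he h0 y.2))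

theorem one_le_t (hr : r.Prime) (ht : t * i = r - 1) : 1 ≤ t := by
  rcases Nat.eq_zero_or_pos t with rfl | h'
  · have := hr.two_le; omega
  · exact h'

theorem even_total (hr : r.Prime) (hr2 : r ≠ 2) (hr0 : (r : F) ≠ 0) (a : S.T → ℕ)
    (ha : ∀ y, a (S.star hr hr0 y) = a y) : Even (i * ∑ y, a y) := by
  classical
  rcases Nat.even_or_odd i with he | ho
  · exact he.mul_right _
  · obtain ⟨H, hH⟩ := exists_half (S.star hr hr0) (S.star_star hr hr0)
      (fun y h => S.dual_ne_self hr hr2 ho y.2 (congrArg Subtype.val h))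
    rw [sum_double (S.star hr hr0) hH a ha]
    exact ((even_two_mul _)).mul_left _

/-- A moved part with its isometry. -/
theorem exists_moved (hF : Fintype.card F = q) (hr : r.Prime) (hr2 : r ≠ 2) (hr0 : (r : F) ≠ 0)
    (hi : i = orderOf (q : ZMod r)) (h0 : 0 < i) {a : S.T → ℕ} (ha : a ≠ 0)
    (hs : ∀ y, a (S.star hr hr0 y) = a y) :
    ∃ (k : ℕ) (Q₁ : QuadraticForm F (Fin (i * ∑ y, a y) → F))
      (g₁ : (Fin (i * ∑ y, a y) → F) ≃ₗ[F] (Fin (i * ∑ y, a y) → F)),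
      1 ≤ k ∧ i * ∑ y, a y = 2 * k ∧ (QuadraticMap.polarBilin Q₁).Nondegenerate ∧
        (∀ v, Q₁ (g₁ v) = Q₁ v) ∧ en g₁ ^ r = 1 ∧ (en g₁).charpoly = ∏ y : S.T, (y : F[X]) ^ a y := by
  obtain ⟨Q₁, g₁, h1, h2, h3, h4⟩ := S.exists_blk hF hr hr2 hr0 hi h0 a hs
  obtain ⟨k, hk⟩ := S.even_total hr hr2 hr0 a hs
  refine ⟨k, Q₁, g₁, ?_, by omega, h1, h2, h3, h4⟩
  have : 0 < ∑ y, a y := by
    rw [Nat.pos_iff_ne_zero]
    intro h
    exact ha (funext fun y => by simpa using (Finset.sum_eq_zero_iff.1 h) y (Finset.mem_univ y))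
  have : 0 < i * ∑ y, a y := Nat.mul_pos h0 this
  omega

/-- The type of a space without fixed vectors. -/
theorem half_iff (hF : Fintype.card F = q) (hr : r.Prime) (hr2 : r ≠ 2) (hr0 : (r : F) ≠ 0)
    (hi : i = orderOf (q : ZMod r)) (h0 : 0 < i) (hq0 : (q : ZMod r) ≠ 0)
    {V : Type*} [AddCommGroup V] [Module F V] [FiniteDimensional F V] {k : ℕ} (hk : 1 ≤ k)
    (hV : Module.finrank F V = 2 * k) {Q : QuadraticForm F V}
    (hQ : (QuadraticMap.polarBilin Q).Nondegenerate) {g : V ≃ₗ[F] V} (hg : ∀ v, Q (g v) = Q v)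
    (hgr : en g ^ r = 1) {a : S.T → ℕ}
    (hc : (en g).charpoly = S2568.polyOf S.T i (Module.finrank F V) a)
    (hfull : i * ∑ y, a y = 2 * k) :
    HasHalf (F := F) ⇑Q k ↔ (Odd i ∨ Even (∑ y, a y)) := by
  have := Fact.mk hr
  have hfix := S.fixfree_of_full hr hr0 hc (by rw [hfull, hV])
  rcases Nat.even_or_odd i with he | ho
  · obtain ⟨c₁, c₂, hab⟩ := Spinor.exists_aniso F
    have hq1 : (q : ZMod r) ≠ 1 := fun h => by
      rw [h, orderOf_one] at hi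
      obtain ⟨j, hj⟩ := he
      omega
    have hk' : k = i / 2 * ∑ y, a y := by
      obtain ⟨j, hj⟩ := he
      rw [show i / 2 = j by omega]
      have : i * ∑ y, a y = 2 * (j * ∑ y, a y) := (congrArg (· * ∑ y, a y) hj).trans (by ring)
      omega
    rw [sign_of_fixedPointFree hab hk hV Q hQ (r := r) g hg (fun v => by
        have := congrArg (fun f : Module.End F V => f v) hgr
        rwa [Module.End.pow_apply] at this) hfix hr2 (by rw [hF]; exact hq0) (by rw [hF]; exact hq1)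
      (e := ∑ y, a y) (by rw [hF, hk', pow_mul, neg_one_of_even hr hi he h0])]
    exact (or_iff_right (Nat.not_odd_iff_even.2 he)).symm
  · exact iff_of_true (S.half_of_odd hr hr2 hr0 ho hV hQ g hg hgr hfix) (Or.inl ho)

theorem moved_half_iff (hF : Fintype.card F = q) (hr : r.Prime) (hr2 : r ≠ 2) (hr0 : (r : F) ≠ 0)
    (hi : i = orderOf (q : ZMod r)) (h0 : 0 < i) (hq0 : (q : ZMod r) ≠ 0) {k : ℕ} (hk : 1 ≤ k)
    {a : S.T → ℕ} {Q₁ : QuadraticForm F (Fin (i * ∑ y, a y) → F)}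
    {g₁ : (Fin (i * ∑ y, a y) → F) ≃ₗ[F] (Fin (i * ∑ y, a y) → F)}
    (hk2 : i * ∑ y, a y = 2 * k) (hQ₁ : (QuadraticMap.polarBilin Q₁).Nondegenerate)
    (hg₁ : ∀ v, Q₁ (g₁ v) = Q₁ v) (hr₁ : en g₁ ^ r = 1)
    (hc₁ : (en g₁).charpoly = ∏ y : S.T, (y : F[X]) ^ a y) :
    HasHalf (F := F) ⇑Q₁ k ↔ (Odd i ∨ Even (∑ y, a y)) :=
  S.half_iff hF hr hr2 hr0 hi h0 hq0 hk (by rw [Module.finrank_fin_fun, hk2]) hQ₁ hg₁ hr₁
    (by rw [hc₁, S2568.polyOf, Module.finrank_fin_fun, Nat.sub_self, pow_zero, one_mul]) hk2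

theorem real_plus_iff (hF : Fintype.card F = q) (hr : r.Prime) (hr2 : r ≠ 2) (hr0 : (r : F) ≠ 0)
    (hi : i = orderOf (q : ZMod r)) (h0 : 0 < i) (hq0 : (q : ZMod r) ≠ 0) {m : ℕ} (hm : 1 ≤ m)
    {a : S.T → ℕ} (ha : a ≠ 0) :
    S.Real (OrthOrder.qPlus m F) a ↔ (∀ y, a (S.star hr hr0 y) = a y) ∧ i * ∑ y, a y ≤ 2 * m ∧
      (i * ∑ y, a y = 2 * m → Odd i ∨ Even (∑ y, a y)) := by
  have hQ := OrthForms.qPlus_nondeg (F := F) m
  have hfr : Module.finrank F (PI m → F) = 2 * m := by simp; omega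
  constructor
  · intro h
    refine ⟨fun y => S.sym_of_real hr hr0 hQ h y, hfr ▸ S.bound_of_real hr h, fun hfull => ?_⟩
    obtain ⟨g, hg, hgr, hc⟩ := h
    refine (S.half_iff hF hr hr2 hr0 hi h0 hq0 hm hfr hQ hg hgr hc hfull).1 ?_
    exact hasHalf_map (LinearEquiv.refl F _) (fun v => OrthOrder.qPlus_apply m v) (plus_half m)
  · rintro ⟨hs, hle, hfull⟩
    obtain ⟨k, Q₁, g₁, hk, hk2, hQ₁, hg₁, hr₁, hc₁⟩ := S.exists_moved hF hr hr2 hr0 hi h0 ha hs
    obtain ⟨c₁, c₂, hab⟩ := Spinor.exists_aniso F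
    have hd : Module.finrank F (Fin (i * ∑ y, a y) → F) = 2 * k := by rw [Module.finrank_fin_fun, hk2]
    rcases Nat.lt_or_ge k m with hlt | hge
    · obtain ⟨l, rfl⟩ : ∃ l, m = k + l := ⟨m - k, by omega⟩
      obtain ⟨Q₀, L, hL⟩ := exists_complement_plus hab hk (by omega : 1 ≤ l) hd Q₁ hQ₁
      exact S.real_of_split Q₁ g₁ hg₁ hr₁ hc₁ Q₀ L (c := 1) fun v => by
        rw [one_mul, OrthOrder.qPlus_apply, hL]
    · obtain rfl : k = m := by omega
      obtain ⟨L, hL⟩ := equiv_plus_of_half hab hk hd Q₁ hQ₁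
        ((S.moved_half_iff hF hr hr2 hr0 hi h0 hq0 hk hk2 hQ₁ hg₁ hr₁ hc₁).2 (hfull hk2))
      exact S.real_of_split Q₁ g₁ hg₁ hr₁ hc₁ (0 : QuadraticForm F (Fin 0 → F))
        (LinearEquiv.prodUnique.trans L) (c := 1) fun v => by
        show OrthOrder.qPlus k F (L v.1) = _
        simp [OrthOrder.qPlus_apply]
        exact hL v.1

theorem real_minus_iff (hF : Fintype.card F = q) (hr : r.Prime) (hr2 : r ≠ 2) (hr0 : (r : F) ≠ 0)
    (hi : i = orderOf (q : ZMod r)) (h0 : 0 < i) (hq0 : (q : ZMod r) ≠ 0) {m : ℕ} (hm : 1 ≤ m)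
    {c₁ c₂ : F} (hab : ∀ z₁ z₂ : F, z₁ ^ 2 + c₁ * z₁ * z₂ + c₂ * z₂ ^ 2 = 0 → z₁ = 0 ∧ z₂ = 0)
    {Q : QuadraticForm F (MI (m - 1) → F)} (hQc : ⇑Q = Cfsg.quadFormMinus (m - 1) F c₁ c₂)
    (hQ : (QuadraticMap.polarBilin Q).Nondegenerate) {a : S.T → ℕ} (ha : a ≠ 0) :
    S.Real Q a ↔ (∀ y, a (S.star hr hr0 y) = a y) ∧ i * ∑ y, a y ≤ 2 * m ∧
      (i * ∑ y, a y = 2 * m → ¬ (Odd i ∨ Even (∑ y, a y))) := by
  have hfr : Module.finrank F (MI (m - 1) → F) = 2 * m := by simp; omega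
  constructor
  · intro h
    refine ⟨fun y => S.sym_of_real hr hr0 hQ h y, hfr ▸ S.bound_of_real hr h, fun hfull hev => ?_⟩
    obtain ⟨g, hg, hgr, hc⟩ := h
    have hh := (S.half_iff hF hr hr2 hr0 hi h0 hq0 hm hfr hQ hg hgr hc hfull).2 hev
    rw [hQc] at hh
    exact minus_no_half (m - 1) c₁ c₂ hab (by rwa [Nat.sub_add_cancel hm])
  · rintro ⟨hs, hle, hfull⟩
    obtain ⟨k, Q₁, g₁, hk, hk2, hQ₁, hg₁, hr₁, hc₁⟩ := S.exists_moved hF hr hr2 hr0 hi h0 ha hs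
    have hd : Module.finrank F (Fin (i * ∑ y, a y) → F) = 2 * k := by rw [Module.finrank_fin_fun, hk2]
    rcases Nat.lt_or_ge k m with hlt | hge
    · obtain ⟨l, rfl⟩ : ∃ l, m = k + l := ⟨m - k, by omega⟩
      obtain ⟨Q₀, L, hL⟩ := exists_complement_minus hab hk (by omega : 1 ≤ l) hd Q₁ hQ₁
      exact S.real_of_split Q₁ g₁ hg₁ hr₁ hc₁ Q₀ L (c := 1) fun v => by
        rw [one_mul, hQc, hL]
    · obtain rfl : k = m := by omega
      rcases Spinor.equiv_plus_or_minus hk hd Q₁ hQ₁ c₁ c₂ hab with ⟨L, hL⟩ | ⟨L, hL⟩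
      · exact absurd ((S.moved_half_iff hF hr hr2 hr0 hi h0 hq0 hk hk2 hQ₁ hg₁ hr₁ hc₁).1
          (hasHalf_map L.symm (fun v => by rw [← hL, L.apply_symm_apply]) (plus_half k))) (hfull hk2)
      · exact S.real_of_split Q₁ g₁ hg₁ hr₁ hc₁ (0 : QuadraticForm F (Fin 0 → F))
          (LinearEquiv.prodUnique.trans L) (c := 1) fun v => by
          show Q (L v.1) = _
          simp [hQc]
          exact hL v.1

theorem real_odd_iff (hF : Fintype.card F = q) (hr : r.Prime) (hr2 : r ≠ 2) (hr0 : (r : F) ≠ 0)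
    (hi : i = orderOf (q : ZMod r)) (h0 : 0 < i) (h2 : (2 : F) ≠ 0) {m : ℕ} {a : S.T → ℕ} (ha : a ≠ 0) :
    S.Real (FormsLib.qOdd m F) a ↔ (∀ y, a (S.star hr hr0 y) = a y) ∧ i * ∑ y, a y ≤ 2 * m + 1 := by
  have hQ := FormsLib.qOdd_nondeg (F := F) (m := m) h2
  have hfr : Module.finrank F (Unit ⊕ PI m → F) = 2 * m + 1 := by simp; omega
  constructor
  · intro h
    exact ⟨fun y => S.sym_of_real hr hr0 hQ h y, hfr ▸ S.bound_of_real hr h⟩
  · rintro ⟨hs, hle⟩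
    obtain ⟨k, Q₁, g₁, hk, hk2, hQ₁, hg₁, hr₁, hc₁⟩ := S.exists_moved hF hr hr2 hr0 hi h0 ha hs
    let e : (Fin (2 * (m - k) + 1) → F) ≃ₗ[F] (Unit ⊕ PI (m - k) → F) :=
      (Module.finBasisOfFinrankEq F (Unit ⊕ PI (m - k) → F) (by simp; omega)).equivFun.symm
    let Q₀ := (FormsLib.qOdd (m - k) F).comp e.toLinearMap
    obtain ⟨c, L, hc, hL⟩ := exists_similar_odd h2 (m := m)
      (V := (Fin (i * ∑ y, a y) → F) × (Fin (2 * (m - k) + 1) → F))
      (by rw [Module.finrank_prod, Module.finrank_fin_fun, Module.finrank_fin_fun, hk2]; omega)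
      (Q₁.prod Q₀) (prod_nondeg hQ₁ (nondeg_comp (FormsLib.qOdd_nondeg h2) e))
    exact S.real_of_split Q₁ g₁ hg₁ hr₁ hc₁ Q₀ L (c := c) fun v => by
      rw [show FormsLib.qOdd m F (L v) = Cfsg.quadFormOdd m F (L v) by
        simp [FormsLib.qOdd_apply, Cfsg.quadFormOdd, sq], hL]
      rfl

end Factors

end Cfsg.Agent.OrthClasses
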